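import Cfsg.Agent.Lib.HeUniq.Excl.Defs

/-! The checks for the column group, evaluated. -/

set_option autoImplicit false
set_option maxRecDepth 100000
set_option Elab.async false

namespace Cfsg.Agent.HeUniq.Excl

open Cfsg.Agent.HeUniq.Model

theorem unique113 : uniqueOK 113 = true := by decide +kernel

theorem unique115 : uniqueOK 115 = true := by decide +kernel

end Cfsg.Agent.HeUniq.Excl
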