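import Cfsg.Agent.Lib.HeUniq.Excl.Chk
import Cfsg.Agent.Lib.HeUniq.Excl.ChkU
import Cfsg.Agent.Lib.HeUniq.Excl.ChkN
import Cfsg.Agent.Lib.HeUniq.Fus.Pattern

/-! In the wrong patterns the column group is permuted transitively by its normaliser. -/

set_option autoImplicit false
set_option maxRecDepth 20000

namespace Cfsg.Agent.HeUniq.Excl

open Cfsg.Agent.HeUniq.Model Cfsg.Agent.HeUniq.Fus Subgroup

theorem colA_inC {j : ℕ} (hj : j < 16) : InC (colA j) :=
  inC_cd (show 9728 + (j % 8 + 64 * (j / 8)) < 21504 by omega)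

theorem colA_mul {i j : ℕ} (hi : i < 16) (hj : j < 16) : mC (colA i) (colA j) = colA (i ^^^ j) := by
  have h := allB_spec col_ok i hi
  simp only [colOK, Bool.and_eq_true] at h
  exact Nat.eq_of_beq_eq_true (allB_spec h.1.1 j hj)

theorem colA_zero : colA 0 = oneC := cd_one

theorem colA_eight : colA 8 = zC := cd_z

theorem colA_cls {j : ℕ} (hj : j < 16) (h0 : j ≠ 0) (h8 : j ≠ 8) : cls (colA j) = 6 := by
  have h := allB_spec col_ok j hj
  simp only [colOK, Bool.and_eq_true, Bool.or_eq_true, Nat.beq_eq] at h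
  exact (h.1.2.resolve_left (by simp [h0, h8]))

theorem uA_inC : InC uA := colA_inC (j := 1) (by norm_num)

theorem uA_cls : cls uA = 6 := colA_cls (by norm_num) (by norm_num) (by norm_num)

theorem rep_z_cls : ∀ d, d < 8 → d ∈ ([1, 3, 4, 6] : List ℕ) → cls (mC (repC d) zC) = d := by decide +kernel

theorem rep0_z_cls : cls (mC (repC 0) zC) = 2 := by decide +kernel

theorem col_key : ∀ j : Fin 16, (j : ℕ) ∉ ([0, 1, 8, 9] : List ℕ) → ∃ k : Fin 16, (k : ℕ) ∉ ([0, 1, 8, 9] : List ℕ) ∧
    (k : ℕ) ^^^ (j : ℕ) ∉ ([0, 1, 8, 9] : List ℕ) ∧ ∀ i : Fin 16, (i : ℕ) ∈ ([0, 8, 1, 9] : List ℕ) ∨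
      (i : ℕ) ∈ ([0, 8, 1, 9] : List ℕ).map ((j : ℕ) ^^^ ·) ∨
      (i : ℕ) ∈ (([0, 8, 1, 9] : List ℕ) ++ ([0, 8, 1, 9] : List ℕ).map ((j : ℕ) ^^^ ·)).map ((k : ℕ) ^^^ ·) := by
  decide +kernel

variable {G : Type*} [Group G] [Finite G] {t : G} (F : Frame G t)

/-- the column group in `G` -/
def col : Subgroup G where
  carrier := {x | ∃ j < 16, F.f (colA j) = x}
  one_mem' := ⟨0, by norm_num, by rw [colA_zero, F.one]⟩
  mul_mem' := by
    rintro _ _ ⟨i, hi, rfl⟩ ⟨j, hj, rfl⟩
    exact ⟨i ^^^ j, Nat.xor_lt_two_pow (n := 4) hi hj, by rw [← colA_mul hi hj, F.mul (colA_inC hi) (colA_inC hj)]⟩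
  inv_mem' := by
    rintro _ ⟨i, hi, rfl⟩
    refine ⟨i, hi, (inv_eq_of_mul_eq_one_left ?_).symm⟩
    rw [← F.mul (colA_inC hi) (colA_inC hi), colA_mul hi hi, Nat.xor_self, colA_zero, F.one]

omit [Finite G] in
theorem mem_col {x : G} : x ∈ col F ↔ ∃ j < 16, F.f (colA j) = x := Iff.rfl

omit [Finite G] in
theorem col_f {j : ℕ} (hj : j < 16) : F.f (colA j) ∈ col F := ⟨j, hj, rfl⟩

omit [Finite G] in
theorem col_inj {i j : ℕ} (hi : i < 16) (hj : j < 16) (h : F.f (colA i) = F.f (colA j)) : i = j := by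
  have := congrArg idxC (F.inj (colA_inC hi) (colA_inC hj) h)
  change idxC (cd (9728 + (i % 8 + 64 * (i / 8)))) = idxC (cd (9728 + (j % 8 + 64 * (j / 8)))) at this
  rw [idxC_cd (show 9728 + (i % 8 + 64 * (i / 8)) < 21504 by omega),
    idxC_cd (show 9728 + (j % 8 + 64 * (j / 8)) < 21504 by omega)] at this
  have h1 : i % 8 + 64 * (i / 8) = j % 8 + 64 * (j / 8) := Nat.add_left_cancel this
  omega

theorem card_col : Nat.card (col F) = 16 := by
  rw [Nat.card_congr (Equiv.ofBijective (fun j : Fin 16 => (⟨F.f (colA j), col_f F j.2⟩ : col F))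
    ⟨fun i j h => Fin.ext (col_inj F i.2 j.2 (congrArg Subtype.val h)),
      fun ⟨x, j, hj, e⟩ => ⟨⟨j, hj⟩, Subtype.ext e⟩⟩).symm, Nat.card_eq_fintype_card, Fintype.card_fin]

omit [Finite G] in
theorem col_comm {a b : G} (ha : a ∈ col F) (hb : b ∈ col F) : a * b = b * a := by
  obtain ⟨i, hi, rfl⟩ := ha
  obtain ⟨j, hj, rfl⟩ := hb
  rw [← F.mul (colA_inC hi) (colA_inC hj), ← F.mul (colA_inC hj) (colA_inC hi), colA_mul hi hj, colA_mul hj hi,
    Nat.xor_comm]

omit [Finite G] in
theorem t_mem_col : t ∈ col F := ⟨8, by norm_num, by rw [colA_eight, F.fz]⟩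

theorem normOK_all {i : ℕ} (hi : i < 21504) : normOK i = true := by
  rcases Nat.lt_or_ge i 10752 with h | h
  · exact allB_spec norm0_ok i h
  · exact allB_chunk norm1_ok h (by omega)

omit [Finite G] in
theorem conj_col {g a : G} (hg : g * t = t * g) (ha : a ∈ col F) : g * a * g⁻¹ ∈ col F := by
  obtain ⟨c, ⟨i, hi, rfl⟩, rfl⟩ := F.surj g hg
  have h := normOK_all hi
  simp only [normOK, Bool.and_eq_true] at h
  have hb : ∀ j ∈ ([1, 2, 4, 8] : List ℕ), F.f (cd i) * F.f (colA j) * (F.f (cd i))⁻¹ ∈ col F := by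
    intro j hj
    have h1 := List.all_eq_true.1 h.1 j hj
    obtain ⟨k, hk, hkj⟩ := List.any_eq_true.1 h1
    have hk' : k < 16 := List.mem_range.1 hk
    have hj' : j < 16 := by simp only [List.mem_cons, List.not_mem_nil, or_false] at hj; omega
    refine ⟨k, hk', eq_mul_inv_of_mul_eq ?_⟩
    rw [← F.mul (colA_inC hk') (inC_cd hi), ← F.mul (inC_cd hi) (colA_inC hj'), Nat.eq_of_beq_eq_true hkj]
  have gen : ∀ j < 16, F.f (cd i) * F.f (colA j) * (F.f (cd i))⁻¹ ∈ col F := by
    have key : ∀ j < 16, j = 0 ∨ j ∈ ([1, 2, 4, 8] : List ℕ) ∨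
        ∃ p < 4, ∃ r < j, j = 2 ^ p ^^^ r := by decide
    intro j
    induction j using Nat.strong_induction_on with
    | _ j ih =>
      intro hj
      rcases key j hj with rfl | hm | ⟨p, hp, r, hr, hjr⟩
      · rw [colA_zero, F.one, mul_one, mul_inv_cancel]; exact one_mem _
      · exact hb j hm
      · have hp' : 2 ^ p ∈ ([1, 2, 4, 8] : List ℕ) := by interval_cases p <;> decide
        have hp16 : 2 ^ p < 16 := Nat.pow_lt_pow_right (by norm_num) (by omega : p < 4)
        rw [hjr, ← colA_mul hp16 (by omega), F.mul (colA_inC hp16) (colA_inC (by omega)),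
          ← conj_mul]
        exact mul_mem (hb _ hp') (ih r hr (by omega))
  obtain ⟨j, hj, rfl⟩ := ha
  exact gen j hj

omit [Finite G] in
theorem cent_col {g : G} (hg : ∀ a ∈ col F, g * a = a * g) : g ∈ col F := by
  obtain ⟨c, ⟨i, hi, rfl⟩, rfl⟩ := F.surj g (hg t (t_mem_col F))
  have h := normOK_all hi
  simp only [normOK, Bool.and_eq_true, Bool.or_eq_true, List.any_eq_true, Bool.not_eq_true'] at h
  rcases h.2 with hin | ⟨j, hj, hne⟩
  · simp only [inA, List.any_eq_true, List.mem_range, Nat.beq_eq] at hin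
    obtain ⟨k, hk, e⟩ := hin
    exact ⟨k, hk, by rw [e]⟩
  · exfalso
    have hj' : j < 16 := by simp only [List.mem_cons, List.not_mem_nil, or_false] at hj; omega
    have := hg _ (col_f F hj')
    rw [← F.mul (inC_cd hi) (colA_inC hj'), ← F.mul (colA_inC hj') (inC_cd hi)] at this
    rw [F.inj ((inC_cd hi).mul (colA_inC hj')) ((colA_inC hj').mul (inC_cd hi)) this, Nat.beq_refl] at hne
    exact Bool.noConfusion hne

variable (hm : mask F ∈ ([96, 113, 115] : List ℕ))

include hm

omit [Finite G] in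
theorem bit_six : (mask F).testBit 6 = true := by
  have : ∀ m ∈ ([96, 113, 115] : List ℕ), m.testBit 6 = true := by decide
  exact this _ hm

omit [Finite G] in
theorem col_conj_t {a : G} (ha : a ∈ col F) (h1 : a ≠ 1) : IsConj t a := by
  obtain ⟨j, hj, rfl⟩ := ha
  rcases eq_or_ne j 8 with rfl | h8
  · rw [colA_eight, F.fz]
  · have h0 : j ≠ 0 := by rintro rfl; exact h1 (by rw [colA_zero, F.one])
    rw [conj_iff F (by rw [colA_cls hj h0 h8]; norm_num), colA_cls hj h0 h8]
    exact bit_six F hm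

omit [Finite G] in
/-- an element fixing `u` and moving `t` to `t * u` -/
theorem exists_move : ∃ h : G, h * F.f uA * h⁻¹ = F.f uA ∧ h * t * h⁻¹ = t * F.f uA := by
  have hu : InC uA := colA_inC (j := 1) (by norm_num)
  have hcu : cls uA < 8 := by rw [uA_cls]; norm_num
  obtain ⟨c0, hc0t, hc0⟩ := to_rep F hcu
  rw [uA_cls] at hc0
  obtain ⟨d, hd, hd5, hdm, g, hg6, hgt⟩ := swap F (k := 6) (by norm_num) (by norm_num) (bit_six F hm)
  have hG : (g * c0) * F.f uA * (g * c0)⁻¹ = t := by
    rw [mul_inv_rev, show g * c0 * F.f uA * (c0⁻¹ * g⁻¹) = g * (c0 * F.f uA * c0⁻¹) * g⁻¹ by group, hc0, hg6]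
  have hGt : (g * c0) * t * (g * c0)⁻¹ = F.f (repC d) := by
    rw [mul_inv_rev, show g * c0 * t * (c0⁻¹ * g⁻¹) = g * (c0 * t) * c0⁻¹ * g⁻¹ by group, hc0t,
      show g * (t * c0) * c0⁻¹ * g⁻¹ = g * t * g⁻¹ by group, hgt]
  generalize g * c0 = k at hG hGt
  have hutX : IsConj t (F.f (repC d) * t) := by
    have h9 : cls (colA 9) = 6 := colA_cls (by norm_num) (by norm_num) (by norm_num)
    have hx : IsConj t (F.f (colA 8) * F.f uA) := by
      rw [show uA = colA 1 from rfl, ← F.mul (colA_inC (by norm_num)) (colA_inC (by norm_num)),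
        colA_mul (by norm_num) (by norm_num), show 8 ^^^ 1 = 9 from rfl, conj_iff F (by rw [h9]; norm_num), h9]
      exact bit_six F hm
    rw [colA_eight, F.fz] at hx
    refine hx.trans (isConj_iff.2 ⟨k, ?_⟩)
    rw [← conj_mul, hG, hGt]
  have hdrep := (rep_cd hd).1
  have hsame : cls (mC (repC d) zC) = d := by
    have hmm : ∀ m ∈ ([96, 113, 115] : List ℕ), ∀ j < 8, m.testBit j = true → j ≠ 5 →
        j = 0 ∨ j ∈ ([1, 3, 4, 6] : List ℕ) := by decide
    rcases hmm _ hm d hd hdm hd5 with rfl | h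
    · exfalso
      have hc : cls (mC (repC 0) zC) < 8 := by rw [rep0_z_cls]; norm_num
      have h' := conj_iff F hc
      rw [F.mul hdrep inC_z, F.fz, rep0_z_cls] at h'
      have h2 : ∀ m ∈ ([96, 113, 115] : List ℕ), m.testBit 2 = false := by decide
      have h3 := h2 _ hm
      rw [h'.1 hutX] at h3
      exact Bool.noConfusion h3
    · exact rep_z_cls d hd h
  obtain ⟨c1, hc1t, hc1⟩ := to_rep F (show cls (mC (repC d) zC) < 8 by rw [hsame]; exact hd)
  rw [hsame, F.mul hdrep inC_z, F.fz] at hc1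
  refine ⟨k⁻¹ * c1⁻¹ * k, ?_, ?_⟩
  · have e1 : k * F.f uA = t * k := (mul_inv_eq_iff_eq_mul.1 hG)
    have hc1' : c1⁻¹ * t * c1 = t := by rw [mul_assoc, ← hc1t, inv_mul_cancel_left]
    calc k⁻¹ * c1⁻¹ * k * F.f uA * (k⁻¹ * c1⁻¹ * k)⁻¹
        = k⁻¹ * (c1⁻¹ * (k * F.f uA * k⁻¹) * c1) * k := by group
      _ = k⁻¹ * (c1⁻¹ * t * c1) * k := congrArg (fun y => k⁻¹ * (c1⁻¹ * y * c1) * k) hG
      _ = k⁻¹ * t * k := congrArg (fun y => k⁻¹ * y * k) hc1'
      _ = k⁻¹ * (k * F.f uA * k⁻¹) * k := congrArg (fun y => k⁻¹ * y * k) hG.symm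
      _ = F.f uA := by group
  · have hc1'' : c1⁻¹ * F.f (repC d) * c1 = F.f (repC d) * t := by
      calc c1⁻¹ * F.f (repC d) * c1 = c1⁻¹ * (c1 * (F.f (repC d) * t) * c1⁻¹) * c1 :=
            congrArg (fun y => c1⁻¹ * y * c1) hc1.symm
        _ = F.f (repC d) * t := by group
    calc k⁻¹ * c1⁻¹ * k * t * (k⁻¹ * c1⁻¹ * k)⁻¹
        = k⁻¹ * (c1⁻¹ * (k * t * k⁻¹) * c1) * k := by group
      _ = k⁻¹ * (c1⁻¹ * F.f (repC d) * c1) * k := congrArg (fun y => k⁻¹ * (c1⁻¹ * y * c1) * k) hGt
      _ = k⁻¹ * (F.f (repC d) * t) * k := congrArg (fun y => k⁻¹ * y * k) hc1''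
      _ = k⁻¹ * ((k * t * k⁻¹) * (k * F.f uA * k⁻¹)) * k := by rw [hG, hGt]
      _ = t * F.f uA := by group

omit [Finite G] in
theorem move_col {h : G} (hu : h * F.f uA * h⁻¹ = F.f uA) (ht : h * t * h⁻¹ = t * F.f uA) {a : G}
    (ha : a ∈ col F) : h * a * h⁻¹ ∈ col F := by
  classical
  have hU : F.f uA ∈ col F := col_f F (j := 1) (by norm_num)
  have huu : F.f uA * F.f uA = 1 := by
    rw [show uA = colA 1 from rfl, ← F.mul (colA_inC (by norm_num)) (colA_inC (by norm_num)),
      colA_mul (by norm_num) (by norm_num), Nat.xor_self, colA_zero, F.one]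
  have hback : h * (t * F.f uA) * h⁻¹ = t := by
    rw [← conj_mul, ht, hu, mul_assoc, huu, mul_one]
  have hct : ∀ {x : G}, x ∈ col F → (h * x * h⁻¹) * t = t * (h * x * h⁻¹) := by
    intro x hx
    conv_lhs => arg 2; rw [← hback]
    rw [conj_mul, col_comm F hx (mul_mem (t_mem_col F) hU), ← conj_mul, hback]
  have hex : ∀ j : Fin 16, ∃ c, InC c ∧ F.f c = h * F.f (colA j) * h⁻¹ := fun j => by
    obtain ⟨c, hc, e⟩ := F.surj _ (hct (col_f F j.2)); exact ⟨c, hc, e⟩
  choose cf hcC hcf using hex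
  let c : ℕ → ℕ := fun j => if hj : j < 16 then cf ⟨j, hj⟩ else oneC
  have cC : ∀ {j}, j < 16 → InC (c j) := fun {j} hj => by simp only [c, dif_pos hj]; exact hcC _
  have cv : ∀ {j}, j < 16 → F.f (c j) = h * F.f (colA j) * h⁻¹ := fun {j} hj => by
    simp only [c, dif_pos hj]; exact hcf _
  have cinj : ∀ {i j}, i < 16 → j < 16 → c i = c j → i = j := fun {i j} hi hj e => by
    refine col_inj F hi hj (mul_left_cancel (a := h) (mul_right_cancel (b := h⁻¹) ?_))
    rw [← cv hi, ← cv hj, e]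
  have cmul : ∀ {i j}, i < 16 → j < 16 → mC (c i) (c j) = c (i ^^^ j) := fun {i j} hi hj => by
    have hij : i ^^^ j < 16 := Nat.xor_lt_two_pow (n := 4) hi hj
    refine F.inj ((cC hi).mul (cC hj)) (cC hij) ?_
    rw [F.mul (cC hi) (cC hj), cv hi, cv hj, cv hij, conj_mul, ← F.mul (colA_inC hi) (colA_inC hj),
      colA_mul hi hj]
  have c0 : c 0 = oneC := F.inj (cC (by norm_num)) inC_one (by
    rw [cv (by norm_num), colA_zero, F.one, mul_one, mul_inv_cancel])
  have c1 : c 1 = uA := F.inj (cC (by norm_num)) uA_inC (by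
    rw [cv (by norm_num)]; exact hu)
  have c8 : c 8 = mC zC uA := F.inj (cC (by norm_num)) (inC_z.mul uA_inC) (by
    rw [cv (by norm_num), colA_eight, F.mul inC_z uA_inC, F.fz]; exact ht)
  have c9 : c 9 = zC := F.inj (cC (by norm_num)) inC_z (by
    rw [cv (by norm_num), F.fz]
    refine Eq.trans ?_ hback
    rw [show (9 : ℕ) = 8 ^^^ 1 from rfl, ← colA_mul (by norm_num) (by norm_num),
      F.mul (colA_inC (by norm_num)) (colA_inC (by norm_num)), colA_eight, F.fz]
    rfl)
  have hcls : ∀ {j}, j < 16 → j ≠ 0 → cls (c j) < 8 ∧ (mask F).testBit (cls (c j)) = true := by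
    intro j hj h0
    have hX : IsConj t (F.f (c j)) := by
      rw [cv hj]
      exact (col_conj_t F hm (col_f F hj) fun e => h0 (col_inj F hj (by norm_num)
        (e.trans (by rw [colA_zero, F.one])))).trans (isConj_iff.2 ⟨h, rfl⟩)
    have hl : cls (c j) < 8 := by
      refine cls_lt (cC hj) ?_ fun e => h0 (cinj hj (by norm_num) (e.trans c0.symm))
      rw [cmul hj hj, Nat.xor_self, c0]
    exact ⟨hl, (conj_iff F hl).1 hX⟩
  have hfour : ∀ {j}, j < 16 → j ∉ ([0, 1, 8, 9] : List ℕ) → ∀ w ∈ fours, c j ≠ w := by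
    intro j hj hne w hw e
    simp only [fours, List.mem_cons, List.not_mem_nil, or_false] at hw
    simp only [List.mem_cons, List.not_mem_nil, or_false, not_or] at hne
    rcases hw with rfl | rfl | rfl | rfl
    · exact hne.1 (cinj hj (by norm_num) (e.trans c0.symm))
    · exact hne.2.2.2 (cinj hj (by norm_num) (e.trans c9.symm))
    · exact hne.2.1 (cinj hj (by norm_num) (e.trans c1.symm))
    · exact hne.2.2.1 (cinj hj (by norm_num) (e.trans c8.symm))
  have hcand : ∀ {j}, j < 16 → j ∉ ([0, 1, 8, 9] : List ℕ) → c j ∈ candsOf (mask F) := by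
    intro j hj hne
    obtain ⟨hl, hb⟩ := hcls hj fun e => hne (by simp [e])
    have hp : pos (c j) < 575 := rep_cd.pos_lt _
    have hcode : ivCode (pos (c j)) = c j := by
      have := hl; unfold cls at this
      cases hq : Nat.beq (ivCode (pos (c j))) (c j)
      · rw [hq] at this; simp at this
      · exact Nat.eq_of_beq_eq_true hq
    have hivc : ivCls (pos (c j)) = cls (c j) := by unfold cls; rw [hcode, Nat.beq_refl, cond_true]
    have memg : ∀ (f : ℕ → Bool) (g : ℕ → ℕ) n i, i < n → f i = true → g i ∈ gather f g n := by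
      intro f g n
      induction n with
      | zero => omega
      | succ n ih =>
        intro i hi hf
        show g i ∈ (bif f n then g n :: gather f g n else gather f g n)
        rcases Nat.lt_succ_iff_lt_or_eq.1 hi with h' | rfl
        · cases f n
          · exact ih i h' hf
          · exact List.mem_cons_of_mem _ (ih i h' hf)
        · rw [hf]; exact List.mem_cons_self
    rw [candsOf, ← hcode]
    refine memg _ _ 575 _ hp ?_
    simp only [Bool.and_eq_true, hivc, hb, hcode, true_and, List.all_eq_true, Bool.not_eq_true', Nat.beq_eq]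
    refine ⟨?_, fun w hw => Bool.eq_false_iff.2 fun e => hfour hj hne w hw (Nat.eq_of_beq_eq_true e)⟩
    rw [← c1, cmul hj (by norm_num), cmul (by norm_num) hj, Nat.xor_comm]
  have hin : ∀ j < 16, j ∉ ([0, 1, 8, 9] : List ℕ) → inA (c j) = true := by
    intro j hj hne
    obtain ⟨⟨k, hk⟩, hkne, hkj, hspan⟩ := col_key ⟨j, hj⟩ hne
    have hu' : uniqueOK (mask F) = true := by
      simp only [List.mem_cons, List.not_mem_nil, or_false] at hm
      rcases hm with e | e | e <;> rw [e]
      exacts [unique96, unique113, unique115]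
    simp only [uniqueOK, List.all_eq_true] at hu'
    have hp := hu' _ (hcand hj hne) _ (hcand hk hkne)
    have hfl : fours = [c 0, c 9, c 1, c 8] := by rw [c0, c1, c8, c9]; rfl
    have hT : ∀ x ∈ fours ++ fours.map (mC (c j)), ∃ i < 16, x = c i ∧
        (i ∈ ([0, 8, 1, 9] : List ℕ) ∨ i ∈ ([0, 8, 1, 9] : List ℕ).map (j ^^^ ·)) := by
      intro x hx
      rw [hfl] at hx
      simp only [List.map_cons, List.map_nil, List.cons_append, List.nil_append, List.mem_cons,
        List.not_mem_nil, or_false] at hx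
      rw [cmul hj (by norm_num), cmul hj (by norm_num), cmul hj (by norm_num), cmul hj (by norm_num)] at hx
      rcases hx with rfl | rfl | rfl | rfl | rfl | rfl | rfl | rfl
      all_goals exact ⟨_, (by first | exact Nat.xor_lt_two_pow (n := 4) hj (by norm_num) | norm_num), rfl, (by
        first
          | (refine Or.inl ?_; simp; done)
          | (refine Or.inr (List.mem_map.2 ⟨_, ?_, rfl⟩); simp; done))⟩
    have hTmem : ∀ i < 16, (i ∈ ([0, 8, 1, 9] : List ℕ) ∨ i ∈ ([0, 8, 1, 9] : List ℕ).map (j ^^^ ·)) →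
        c i ∈ fours ++ fours.map (mC (c j)) := by
      intro i hi h'
      rw [hfl]
      simp only [List.map_cons, List.map_nil, List.cons_append, List.nil_append, List.mem_cons,
        List.not_mem_nil, or_false] at h' ⊢
      rw [cmul hj (by norm_num), cmul hj (by norm_num), cmul hj (by norm_num), cmul hj (by norm_num)]
      rcases h' with (rfl | rfl | rfl | rfl) | (rfl | rfl | rfl | rfl) <;> simp
    have hS : ∀ i < 16, c i ∈ (fours ++ fours.map (mC (c j))) ++ (fours ++ fours.map (mC (c j))).map (mC (c k)) := by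
      intro i hi
      rcases hspan ⟨i, hi⟩ with h' | h' | h'
      · exact List.mem_append_left _ (hTmem i hi (Or.inl h'))
      · exact List.mem_append_left _ (hTmem i hi (Or.inr h'))
      · obtain ⟨i', hi', rfl⟩ := List.mem_map.1 h'
        have h16 : i' < 16 := by
          rw [List.mem_append, List.mem_map] at hi'
          rcases hi' with h'' | ⟨q, hq, rfl⟩
          · simp only [List.mem_cons, List.not_mem_nil, or_false] at h''; omega
          · exact Nat.xor_lt_two_pow (n := 4) hj (by simp only [List.mem_cons, List.not_mem_nil, or_false] at hq; omega)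
        refine List.mem_append_right _ (List.mem_map.2 ⟨c i', hTmem i' h16 (List.mem_append.1 hi'), ?_⟩)
        rw [cmul hk h16]
    have hpure : ∀ x ∈ (fours ++ fours.map (mC (c j))) ++ (fours ++ fours.map (mC (c j))).map (mC (c k)),
        pureOK (mask F) x = true := by
      intro x hx
      have : ∃ i < 16, x = c i := by
        rw [List.mem_append, List.mem_map] at hx
        rcases hx with hx | ⟨y, hy, rfl⟩
        · obtain ⟨i, hi, e, -⟩ := hT x hx; exact ⟨i, hi, e⟩
        · obtain ⟨i, hi, rfl, -⟩ := hT y hy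
          exact ⟨k ^^^ i, Nat.xor_lt_two_pow (n := 4) hk hi, cmul hk hi⟩
      obtain ⟨i, hi, rfl⟩ := this
      rw [pureOK, Bool.or_eq_true]
      rcases eq_or_ne i 0 with rfl | h0
      · exact Or.inl (by rw [c0, Nat.beq_refl])
      · right; rw [Bool.and_eq_true, Nat.blt_eq]; exact hcls hi h0
    have hnT : (fours ++ fours.map (mC (c j))).any (fun x => Nat.beq (c k) x) = false := by
      rw [List.any_eq_false]
      intro x hx e
      obtain ⟨i, hi, rfl, h'⟩ := hT x hx
      obtain rfl := cinj hk hi (Nat.eq_of_beq_eq_true e)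
      rcases h' with h' | h'
      · exact hkne (by simp only [List.mem_cons, List.not_mem_nil, or_false] at h' ⊢; tauto)
      · obtain ⟨q, hq, hjq⟩ := List.mem_map.1 h'
        apply hkj
        show k ^^^ j ∈ ([0, 1, 8, 9] : List ℕ)
        rw [← hjq, Nat.xor_comm, ← Nat.xor_assoc, Nat.xor_self, Nat.zero_xor]
        simp only [List.mem_cons, List.not_mem_nil, or_false] at hq ⊢; tauto
    have hnorm : ∀ g ∈ hgens, ∀ i < 16, ∃ i' < 16, mC g (c i) = mC (c i') g := by
      intro g hg i hi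
      have hgC : InC g ∧ mC g uA = mC uA g := by
        simp only [hgens, List.mem_cons, List.not_mem_nil, or_false] at hg
        rcases hg with rfl | rfl | rfl | rfl
        all_goals exact ⟨inC_cd (by norm_num), by decide +kernel⟩
      have hgu : F.f g * F.f uA = F.f uA * F.f g := by
        rw [← F.mul hgC.1 uA_inC, hgC.2, F.mul uA_inC hgC.1]
      have hg' : (h⁻¹ * F.f g * h) * t = t * (h⁻¹ * F.f g * h) := by
        have e : (h⁻¹ * F.f g * h) * (h⁻¹ * t * h) = (h⁻¹ * t * h) * (h⁻¹ * F.f g * h) := by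
          calc (h⁻¹ * F.f g * h) * (h⁻¹ * t * h) = h⁻¹ * (F.f g * t) * h := by group
            _ = h⁻¹ * (t * F.f g) * h := congrArg (fun y => h⁻¹ * y * h) (F.cent hgC.1)
            _ = _ := by group
        have e' : (h⁻¹ * F.f g * h) * (h⁻¹ * F.f uA * h) = (h⁻¹ * F.f uA * h) * (h⁻¹ * F.f g * h) := by
          calc (h⁻¹ * F.f g * h) * (h⁻¹ * F.f uA * h) = h⁻¹ * (F.f g * F.f uA) * h := by group
            _ = h⁻¹ * (F.f uA * F.f g) * h := by rw [hgu]
            _ = _ := by group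
        have a1 : h⁻¹ * t * h = t * F.f uA :=
          (congrArg (fun y => h⁻¹ * y * h) hback.symm).trans (by group)
        have a2 : h⁻¹ * F.f uA * h = F.f uA :=
          (congrArg (fun y => h⁻¹ * y * h) hu.symm).trans (by group)
        rw [a1] at e
        rw [a2] at e'
        generalize h⁻¹ * F.f g * h = x at e e'
        have e2 : x * t * F.f uA = t * x * F.f uA := by
          rw [mul_assoc, e, mul_assoc, mul_assoc, e']
        exact mul_right_cancel e2
      obtain ⟨i', hi', e⟩ := conj_col F hg' (col_f F hi)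
      refine ⟨i', hi', F.inj (hgC.1.mul (cC hi)) ((cC hi').mul hgC.1) ?_⟩
      rw [F.mul hgC.1 (cC hi), F.mul (cC hi') hgC.1, cv hi, cv hi', e]
      group
    have hN : (hgens.all fun g => [c j, c k].all fun x =>
        ((fours ++ fours.map (mC (c j))) ++ (fours ++ fours.map (mC (c j))).map (mC (c k))).any
          fun y => Nat.beq (mC g x) (mC y g)) = true := by
      simp only [List.all_eq_true, List.any_eq_true, Nat.beq_eq]
      intro g hg x hx
      simp only [List.mem_cons, List.not_mem_nil, or_false] at hx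
      rcases hx with rfl | rfl
      · obtain ⟨i', hi', e⟩ := hnorm g hg j hj; exact ⟨c i', hS i' hi', e⟩
      · obtain ⟨i', hi', e⟩ := hnorm g hg k hk; exact ⟨c i', hS i' hi', e⟩
    have hcomm : Nat.beq (mC (c j) (c k)) (mC (c k) (c j)) = true := by
      rw [cmul hj hk, cmul hk hj, Nat.xor_comm, Nat.beq_refl]
    have hp2 : ((fours ++ fours.map (mC (c j))) ++ (fours ++ fours.map (mC (c j))).map (mC (c k))).all
        (pureOK (mask F)) = true := List.all_eq_true.2 hpure
    simp only [pairOK, hcomm, hnT, hp2, hN, Bool.not_true, Bool.false_or, Bool.and_eq_true] at hp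
    exact hp.1
  obtain ⟨j, hj, rfl⟩ := ha
  rw [← cv hj]
  by_cases hne : j ∈ ([0, 1, 8, 9] : List ℕ)
  · simp only [List.mem_cons, List.not_mem_nil, or_false] at hne
    rcases hne with rfl | rfl | rfl | rfl
    · rw [c0, F.one]; exact one_mem _
    · rw [c1]; exact hU
    · rw [c8, F.mul inC_z uA_inC, F.fz]; exact mul_mem (t_mem_col F) hU
    · rw [c9, F.fz]; exact t_mem_col F
  · have := hin j hj hne
    simp only [inA, List.any_eq_true, List.mem_range, Nat.beq_eq] at this
    obtain ⟨i, hi, e⟩ := this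
    exact ⟨i, hi, by rw [e]⟩

theorem mem_normalizer_col {g : G} (hg : ∀ a ∈ col F, g * a * g⁻¹ ∈ col F) : g ∈ normalizer (col F : Set G) := by
  refine mem_normalizer_iff.2 fun x => ⟨hg x, fun hx => ?_⟩
  let f : col F → col F := fun a => ⟨g * a.1 * g⁻¹, hg _ a.2⟩
  have hf : Function.Injective f := fun a b e =>
    Subtype.ext (mul_left_cancel (mul_right_cancel (congrArg Subtype.val e)))
  obtain ⟨a, ha⟩ := (Finite.injective_iff_surjective.1 hf) ⟨_, hx⟩
  have : a.1 = x := mul_left_cancel (mul_right_cancel (congrArg Subtype.val ha))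
  exact this ▸ a.2

theorem exists_normalizer {a : G} (ha : a ∈ col F) (h1 : a ≠ 1) :
    ∃ n ∈ normalizer (col F : Set G), n * t * n⁻¹ = a := by
  obtain ⟨j, hj, rfl⟩ := ha
  rcases eq_or_ne j 8 with rfl | h8
  · exact ⟨1, one_mem _, by rw [colA_eight, F.fz]; group⟩
  have h0 : j ≠ 0 := by rintro rfl; exact h1 (by rw [colA_zero, F.one])
  obtain ⟨h, hu, ht⟩ := exists_move F hm
  obtain ⟨c1, hc1t, hc1⟩ := to_rep F (show cls (colA j) < 8 by rw [colA_cls hj h0 h8]; norm_num)
  have h9 : cls (colA 9) = 6 := colA_cls (by norm_num) (by norm_num) (by norm_num)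
  obtain ⟨c2, hc2t, hc2⟩ := to_rep F (show cls (colA 9) < 8 by rw [h9]; norm_num)
  rw [colA_cls hj h0 h8] at hc1
  rw [h9] at hc2
  have hcc : (c1⁻¹ * c2) * t = t * (c1⁻¹ * c2) := by
    rw [mul_assoc, hc2t, ← mul_assoc, ← mul_assoc]
    congr 1
    rw [inv_mul_eq_iff_eq_mul, ← mul_assoc, hc1t, mul_assoc, mul_inv_cancel, mul_one]
  refine ⟨c1⁻¹ * c2 * h, mul_mem (mem_normalizer_col F hm fun a ha => conj_col F hcc ha)
    (mem_normalizer_col F hm fun a ha => move_col F hm hu ht ha), ?_⟩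
  have e9 : t * F.f uA = F.f (colA 9) := by
    rw [show (9 : ℕ) = 8 ^^^ 1 from rfl, ← colA_mul (by norm_num) (by norm_num),
      F.mul (colA_inC (by norm_num)) (colA_inC (by norm_num)), colA_eight, F.fz]
    rfl
  calc c1⁻¹ * c2 * h * t * (c1⁻¹ * c2 * h)⁻¹ = c1⁻¹ * (c2 * (h * t * h⁻¹) * c2⁻¹) * c1 := by group
    _ = c1⁻¹ * F.f (repC 6) * c1 := congrArg (fun y => c1⁻¹ * y * c1)
        ((congrArg (fun y => c2 * y * c2⁻¹) (ht.trans e9)).trans hc2)
    _ = c1⁻¹ * (c1 * F.f (colA j) * c1⁻¹) * c1 := by rw [hc1]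
    _ = F.f (colA j) := by group

end Cfsg.Agent.HeUniq.Excl
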