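import Mathlib.GroupTheory.GroupAction.Quotient
import Mathlib.GroupTheory.Index
import Mathlib.GroupTheory.Subgroup.Centralizer
import Mathlib.Algebra.Group.Conj
import Mathlib.SetTheory.Cardinal.Finite
import Mathlib.Tactic.Group
import Mathlib.Algebra.BigOperators.Ring.Finset

/-! A free conjugation action of a subgroup, and the size of a class. -/

set_option autoImplicit false

namespace Cfsg.Agent.HeUniq.Excl

open Subgroup

variable {G : Type*} [Group G] [Finite G]

theorem free_dvd (A : Subgroup G) (S : Set G) (hS : ∀ a ∈ A, ∀ x ∈ S, a * x * a⁻¹ ∈ S)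
    (hfree : ∀ a ∈ A, ∀ x ∈ S, a * x * a⁻¹ = x → a = 1) : Nat.card A ∣ Nat.card S := by
  classical
  letI : MulAction A S :=
    { smul := fun a x => ⟨a.1 * x.1 * a.1⁻¹, hS _ a.2 _ x.2⟩
      one_smul := fun x => Subtype.ext (show (1 : G) * x.1 * (1 : G)⁻¹ = x.1 by group)
      mul_smul := fun a b x => Subtype.ext
        (show (a.1 * b.1) * x.1 * (a.1 * b.1)⁻¹ = a.1 * (b.1 * x.1 * b.1⁻¹) * a.1⁻¹ by group) }
  letI : Fintype (MulAction.orbitRel.Quotient A S) := Fintype.ofFinite _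
  haveI : ∀ ω : MulAction.orbitRel.Quotient A S, Finite (A ⧸ MulAction.stabilizer A ω.out) := fun ω => inferInstance
  rw [Nat.card_congr (MulAction.selfEquivSigmaOrbitsQuotientStabilizer A S), Nat.card_sigma]
  refine Finset.dvd_sum fun ω _ => ?_
  have hst : MulAction.stabilizer A ω.out = ⊥ := by
    rw [eq_bot_iff]
    intro a ha
    exact Subgroup.mem_bot.2 (Subtype.ext
      (hfree a.1 a.2 _ ω.out.2 (congrArg Subtype.val (MulAction.mem_stabilizer_iff.1 ha))))
  rw [hst, ← Subgroup.index_eq_card, Subgroup.index_bot]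

theorem card_class (t : G) :
    Nat.card {x : G // IsConj t x} * Nat.card (centralizer ({t} : Set G)) = Nat.card G := by
  rw [← Subgroup.index_mul_card (centralizer ({t} : Set G)), Subgroup.index_eq_card]
  congr 1
  symm
  refine Nat.card_congr (Equiv.ofBijective (Quotient.lift (fun g : G => ⟨g * t * g⁻¹, isConj_iff.2 ⟨g, rfl⟩⟩)
    ?_) ⟨?_, ?_⟩)
  · intro a b hab
    have h := mem_centralizer_iff.1 (QuotientGroup.leftRel_apply.1 hab) t rfl
    refine Subtype.ext ?_
    show a * t * a⁻¹ = b * t * b⁻¹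
    calc a * t * a⁻¹ = a * (t * (a⁻¹ * b)) * b⁻¹ := by group
      _ = a * ((a⁻¹ * b) * t) * b⁻¹ := by rw [h]
      _ = b * t * b⁻¹ := by group
  · rintro ⟨a⟩ ⟨b⟩ h
    refine Quotient.sound (QuotientGroup.leftRel_apply.2 (mem_centralizer_iff.2 fun y hy => ?_))
    rw [Set.mem_singleton_iff.1 hy]
    have h' : a * t * a⁻¹ = b * t * b⁻¹ := congrArg Subtype.val h
    calc t * (a⁻¹ * b) = a⁻¹ * (a * t * a⁻¹) * b := by group
      _ = a⁻¹ * (b * t * b⁻¹) * b := by rw [h']
      _ = a⁻¹ * b * t := by group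
  · rintro ⟨x, hx⟩
    obtain ⟨g, hg⟩ := isConj_iff.1 hx
    exact ⟨Quotient.mk'' g, Subtype.ext hg⟩

end Cfsg.Agent.HeUniq.Excl
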