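import Cfsg.Agent.Lib.HeUniq.Excl.GeomChk
import Cfsg.Agent.Lib.HeUniq.Excl.Column
import Cfsg.Agent.Lib.HeUniq.Excl.Count
import Mathlib.Algebra.Order.BigOperators.Group.Finset
import Mathlib.Combinatorics.Enumerative.DoubleCounting

/-! The fusion pattern with mask 113 is impossible in a group of the order of the Held group. -/

set_option autoImplicit false
set_option maxRecDepth 20000

namespace Cfsg.Agent.HeUniq.Excl

open Cfsg.Agent.HeUniq.Model Cfsg.Agent.HeUniq.Fus Subgroup

variable {G : Type*} [Group G]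

/-- the conjugate of a subgroup -/
def cjS (g : G) (B : Subgroup G) : Subgroup G := B.map (MulAut.conj g).toMonoidHom

theorem mem_cjS {g x : G} {B : Subgroup G} : x ∈ cjS g B ↔ g⁻¹ * x * g ∈ B := by
  constructor
  · rintro ⟨b, hb, rfl⟩
    simpa [mul_assoc] using hb
  · exact fun h => ⟨_, h, by simp [mul_assoc]⟩

theorem cjS_cjS (g k : G) (B : Subgroup G) : cjS g (cjS k B) = cjS (g * k) B := by
  ext x; simp only [mem_cjS, mul_inv_rev, mul_assoc]

theorem cjS_one (B : Subgroup G) : cjS 1 B = B := by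
  ext x; simp [mem_cjS]

theorem cjS_card (g : G) (B : Subgroup G) : Nat.card (cjS g B) = Nat.card B :=
  Nat.card_congr (B.equivMapOfInjective _ (MulAut.conj g).injective).toEquiv.symm

/-- two large subgroups of a finite group meet -/
theorem exists_mem_inter [Finite G] (B H K : Subgroup G) (hH : H ≤ B) (hK : K ≤ B)
    (h : Nat.card B < Nat.card H * Nat.card K) : ∃ z, z ∈ H ∧ z ∈ K ∧ z ≠ 1 := by
  by_contra hc
  push Not at hc
  refine absurd (Nat.card_le_card_of_injective
    (fun p : H × K => (⟨(p.1 : G) * p.2, mul_mem (hH p.1.2) (hK p.2.2)⟩ : B)) ?_) (by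
      rw [Nat.card_prod]; omega)
  rintro ⟨a, b⟩ ⟨c, d⟩ e
  have e' : (a : G) * b = c * d := congrArg Subtype.val e
  have h1 : (c : G)⁻¹ * a = d * (b : G)⁻¹ := by
    calc (c : G)⁻¹ * a = (c : G)⁻¹ * (a * b) * (b : G)⁻¹ := by group
      _ = (c : G)⁻¹ * (c * d) * (b : G)⁻¹ := by rw [e']
      _ = _ := by group
  have h2 := hc ((c : G)⁻¹ * a) (mul_mem (inv_mem c.2) a.2) (h1 ▸ mul_mem d.2 (inv_mem b.2))
  have h3 : (a : G) = c := (inv_mul_eq_one.1 h2).symm
  have h4 : (b : G) = d := mul_left_cancel (h3 ▸ e' : (c : G) * b = c * d)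
  exact Prod.ext (Subtype.ext h3) (Subtype.ext h4)

theorem mem_gather (f : ℕ → Bool) (g : ℕ → ℕ) : ∀ n i : ℕ, i < n → f i = true → g i ∈ gather f g n
  | 0, i, hi, _ => by omega
  | n + 1, i, hi, hf => by
    show g i ∈ (bif f n then g n :: gather f g n else gather f g n)
    rcases Nat.lt_succ_iff_lt_or_eq.1 hi with h' | rfl
    · cases f n
      · exact mem_gather f g n i h' hf
      · exact List.mem_cons_of_mem _ (mem_gather f g n i h' hf)
    · rw [hf]; exact List.mem_cons_self

theorem cnt_true : ∀ n : ℕ, cnt (fun _ => true) n = n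
  | 0 => rfl
  | n + 1 => congrArg Nat.succ (cnt_true n)

theorem inL_iff {a : ℕ} {l : List ℕ} : inL a l = true ↔ a ∈ l := by
  simp [inL, List.any_eq_true, Nat.beq_eq]

variable [Fintype G] {t : G} (F : Frame G t) (hG : Nat.card G = 4030387200) (hM : mask F = 113)

open scoped Classical in
/-- the conjugates of the column group -/
noncomputable def cols : Finset (Subgroup G) := Finset.univ.image fun g : G => cjS g (col F)

open scoped Classical in
/-- the conjugates of the transvection -/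
noncomputable def conjs (t : G) : Finset G := Finset.univ.filter fun x => IsConj t x

open scoped Classical in
/-- the elements of a subgroup other than the identity -/
noncomputable def nontriv (B : Subgroup G) : Finset G := Finset.univ.filter fun x => x ∈ B ∧ x ≠ 1

theorem mem_conjs {x : G} : x ∈ conjs t ↔ IsConj t x := by simp [conjs]

theorem mem_nontriv {B : Subgroup G} {x : G} : x ∈ nontriv B ↔ x ∈ B ∧ x ≠ 1 := by simp [nontriv]

theorem mem_cols {B : Subgroup G} : B ∈ cols F ↔ ∃ g : G, cjS g (col F) = B := by simp [cols]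

theorem card_nontriv (B : Subgroup G) : (nontriv B).card = Nat.card B - 1 := by
  classical
  have : nontriv B = (Finset.univ.filter fun x : G => x ∈ B).erase 1 := by
    ext x; simp [nontriv, and_comm]
  rw [this, Finset.card_erase_of_mem (by simp), Nat.card_eq_fintype_card, Fintype.card_subtype]

theorem conj_isConj {g x : G} (h : IsConj t x) : IsConj t (g * x * g⁻¹) := h.trans (isConj_iff.2 ⟨g, rfl⟩)

theorem sq_conjs {x : G} (h : IsConj t x) (F : Frame G t) : x * x = 1 ∧ x ≠ 1 := by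
  obtain ⟨g, rfl⟩ := isConj_iff.1 h
  exact ⟨by rw [conj_mul, sq_t F, mul_one, mul_inv_cancel],
    fun e => t_ne_one F (conj_eq_one_iff.1 e)⟩

include hM

theorem mask_mem : mask F ∈ ([96, 113, 115] : List ℕ) := by rw [hM]; simp

theorem col_fixed {c : G} (hc : c * t = t * c) : cjS c (col F) = col F := by
  ext x
  rw [mem_cjS]
  have hc' : c⁻¹ * t = t * c⁻¹ := (show Commute c t from hc).inv_left.eq
  constructor
  · intro h
    have := conj_col F hc h
    simpa [mul_assoc] using this
  · intro h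
    have := conj_col F hc' h
    simpa [mul_assoc] using this

/-- the transvection lies in a single conjugate -/
theorem cols_t {g : G} (h : t ∈ cjS g (col F)) : cjS g (col F) = col F := by
  rw [mem_cjS] at h
  have h1 : g⁻¹ * t * g ≠ 1 := fun e => t_ne_one F (by
    calc t = g * (g⁻¹ * t * g) * g⁻¹ := by group
      _ = 1 := by rw [e, mul_one, mul_inv_cancel])
  obtain ⟨n, hn, hnt⟩ := exists_normalizer F (mask_mem F hM) h h1
  have hfix : cjS n (col F) = col F := by
    ext x
    rw [mem_cjS]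
    have := mem_normalizer_iff.1 (inv_mem hn) x
    simpa [mul_assoc] using this.symm
  have hc : g * n * t = t * (g * n) := by
    calc g * n * t = g * (n * t * n⁻¹) * n := by group
      _ = g * (g⁻¹ * t * g) * n := by rw [hnt]
      _ = t * (g * n) := by group
  calc cjS g (col F) = cjS g (cjS n (col F)) := by rw [hfix]
    _ = col F := by rw [cjS_cjS, col_fixed F hM hc]

/-- a conjugate of the transvection lies in a single conjugate of the column group -/
theorem cols_eq {g : G} {B : Subgroup G} (hB : B ∈ cols F) (h : g * t * g⁻¹ ∈ B) : B = cjS g (col F) := by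
  obtain ⟨k, rfl⟩ := (mem_cols F).1 hB
  have h' : t ∈ cjS (g⁻¹ * k) (col F) := by
    rw [mem_cjS] at h ⊢
    simpa [mul_assoc] using h
  have := congrArg (cjS g) (cols_t F hM h')
  rwa [cjS_cjS, mul_inv_cancel_left] at this

theorem cols_unique {x : G} (hx : IsConj t x) {B B' : Subgroup G} (hB : B ∈ cols F) (hB' : B' ∈ cols F)
    (h : x ∈ B) (h' : x ∈ B') : B = B' := by
  obtain ⟨g, rfl⟩ := isConj_iff.1 hx
  rw [cols_eq F hM hB h, cols_eq F hM hB' h']

theorem conj_of_mem {B : Subgroup G} (hB : B ∈ cols F) {x : G} (h : x ∈ B) (h1 : x ≠ 1) : IsConj t x := by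
  obtain ⟨g, rfl⟩ := (mem_cols F).1 hB
  obtain ⟨a, ha, rfl⟩ := h
  exact conj_isConj (col_conj_t F (mask_mem F hM) ha fun e => h1 (by simp [e]))

theorem cols_card {B : Subgroup G} (hB : B ∈ cols F) : Nat.card B = 16 := by
  obtain ⟨g, rfl⟩ := (mem_cols F).1 hB
  rw [cjS_card, card_col]

theorem cols_cjS {B : Subgroup G} (hB : B ∈ cols F) (g : G) : cjS g B ∈ cols F := by
  obtain ⟨k, rfl⟩ := (mem_cols F).1 hB
  exact (mem_cols F).2 ⟨g * k, (cjS_cjS g k _).symm⟩

/-- centralisers of elements of a conjugate normalise it -/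
theorem cent_norm {B : Subgroup G} (hB : B ∈ cols F) {b x : G} (hb : b ∈ B) (hb1 : b ≠ 1)
    (hx : x * b = b * x) : cjS x B = B := by
  obtain ⟨g, hg⟩ := isConj_iff.1 (conj_of_mem F hM hB hb hb1)
  subst hg
  obtain rfl := cols_eq F hM hB hb
  have hc : (g⁻¹ * x * g) * t = t * (g⁻¹ * x * g) := by
    calc (g⁻¹ * x * g) * t = g⁻¹ * (x * (g * t * g⁻¹)) * g := by group
      _ = g⁻¹ * ((g * t * g⁻¹) * x) * g := by rw [hx]
      _ = t * (g⁻¹ * x * g) := by group
  have := congrArg (cjS g) (col_fixed F hM hc)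
  rw [cjS_cjS] at this
  rw [cjS_cjS]
  rwa [show g * (g⁻¹ * x * g) = x * g by group] at this

/-- the codes of the involutions of the pattern outside the column group -/
theorem code_isL {x : G} (hx : IsConj t x) (hc : x * t = t * x) (hA : x ∉ col F) :
    ∃ c, InC c ∧ F.f c = x ∧ isL c = true ∧ c ∈ l113 := by
  obtain ⟨c, hcC, rfl⟩ := F.surj x hc
  obtain ⟨h2, h1⟩ := sq_conjs hx F
  have hsq : mC c c = oneC := F.inj (hcC.mul hcC) inC_one (by rw [F.mul hcC hcC, h2, F.one])
  have hl : cls c < 8 := cls_lt hcC hsq fun e => h1 (by rw [e, F.one])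
  have hb : Nat.testBit 113 (cls c) = true := hM ▸ (conj_iff F hl).1 hx
  have hin : inA c = false := by
    refine Bool.eq_false_iff.2 fun e => hA ?_
    simp only [inA, List.any_eq_true, List.mem_range, Nat.beq_eq] at e
    obtain ⟨j, hj, rfl⟩ := e
    exact col_f F hj
  refine ⟨c, hcC, rfl, ?_, ?_⟩
  · simp only [isL, Bool.and_eq_true, Nat.beq_eq, Nat.blt_eq, Bool.not_eq_true']
    exact ⟨⟨⟨hsq, hl⟩, hb⟩, hin⟩
  · have hp : pos c < 575 := rep_cd.pos_lt c
    have hcode : ivCode (pos c) = c := by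
      have := hl; unfold cls at this
      cases hq : Nat.beq (ivCode (pos c)) c
      · rw [hq] at this; simp at this
      · exact Nat.eq_of_beq_eq_true hq
    have hcl : ivCls (pos c) = cls c := by unfold cls; rw [hcode, Nat.beq_refl, cond_true]
    rw [l113, ← hcode]
    exact mem_gather _ _ _ _ hp (by rw [hcode, hcl, hb, hin]; rfl)

/-- counting in the column group on its numbers -/
theorem count_col (P : G → Prop) [DecidablePred P] (q : ℕ → Bool)
    (hq : ∀ j < 15, q j = true ↔ P (F.f (colA (j + 1)))) :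
    ((nontriv (col F)).filter P).card = cnt q 15 := by
  classical
  rw [cnt_eq_card]
  symm
  refine Finset.card_bij (fun j _ => F.f (colA (j + 1))) ?_ ?_ ?_
  · intro j hj
    obtain ⟨hj, hqj⟩ := Finset.mem_filter.1 hj
    rw [Finset.mem_range] at hj
    refine Finset.mem_filter.2 ⟨mem_nontriv.2 ⟨col_f F (by omega), fun e => ?_⟩, (hq j hj).1 hqj⟩
    have := col_inj F (i := j + 1) (j := 0) (by omega) (by norm_num) (by rw [e, colA_zero, F.one])
    omega
  · intro i hi j hj e
    obtain ⟨hi, -⟩ := Finset.mem_filter.1 hi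
    obtain ⟨hj, -⟩ := Finset.mem_filter.1 hj
    rw [Finset.mem_range] at hi hj
    have := col_inj F (i := i + 1) (j := j + 1) (by omega) (by omega) e
    omega
  · intro a ha
    obtain ⟨ha, hP⟩ := Finset.mem_filter.1 ha
    obtain ⟨⟨j, hj, rfl⟩, h1⟩ := mem_nontriv.1 ha
    have h0 : j ≠ 0 := by rintro rfl; exact h1 (by rw [colA_zero, F.one])
    obtain ⟨i, rfl⟩ := Nat.exists_eq_succ_of_ne_zero h0
    exact ⟨i, Finset.mem_filter.2 ⟨Finset.mem_range.2 (by omega), (hq i (by omega)).2 hP⟩, rfl⟩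

open scoped Classical in
/-- transport of counts in a conjugate -/
theorem count_conj (g : G) (B : Subgroup G) (P Q : G → Prop)
    (h : ∀ b ∈ B, P b ↔ Q (g * b * g⁻¹)) :
    ((nontriv (cjS g B)).filter Q).card = ((nontriv B).filter P).card := by
  refine Finset.card_bij' (fun x _ => g⁻¹ * x * g) (fun x _ => g * x * g⁻¹) ?_ ?_ ?_ ?_
  · intro x hx
    obtain ⟨hx, hQ⟩ := Finset.mem_filter.1 hx
    obtain ⟨hx, h1⟩ := mem_nontriv.1 hx
    rw [mem_cjS] at hx
    refine Finset.mem_filter.2 ⟨mem_nontriv.2 ⟨hx, fun e => h1 ?_⟩, (h _ hx).2 (by simpa [mul_assoc] using hQ)⟩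
    calc x = g * (g⁻¹ * x * g) * g⁻¹ := by group
      _ = 1 := by rw [e, mul_one, mul_inv_cancel]
  · intro x hx
    obtain ⟨hx, hP⟩ := Finset.mem_filter.1 hx
    obtain ⟨hx, h1⟩ := mem_nontriv.1 hx
    exact Finset.mem_filter.2 ⟨mem_nontriv.2 ⟨⟨x, hx, rfl⟩, fun e => h1 (conj_eq_one_iff.1 e)⟩, (h x hx).1 hP⟩
  · intro x _; group
  · intro x _; group

open scoped Classical in
/-- an element outside fixes a hyperplane -/
theorem seven_fixed {B : Subgroup G} (hB : B ∈ cols F) {x : G} (hx : IsConj t x) (hn : cjS x B = B)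
    (hxB : x ∉ B) :
    ((nontriv B).filter fun b => x * b = b * x).card = 7 := by
  obtain ⟨g, rfl⟩ := (mem_cols F).1 hB
  have hy : IsConj t (g⁻¹ * x * g) := by simpa using conj_isConj (g := g⁻¹) hx
  set y := g⁻¹ * x * g with hydef
  have hyn : cjS y (col F) = col F := by
    have := congrArg (cjS g⁻¹) hn
    rw [cjS_cjS, cjS_cjS, cjS_cjS, inv_mul_cancel, cjS_one] at this
    rwa [← hydef] at this
  have hyA : y ∉ col F := fun h => hxB (mem_cjS.2 h)
  have hiff : ∀ b : G, y * b = b * y ↔ x * (g * b * g⁻¹) = (g * b * g⁻¹) * x := by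
    intro b
    rw [show x = g * y * g⁻¹ by rw [hydef]; group, conj_mul, conj_mul, mul_left_inj, mul_right_inj]
  rw [count_conj F hM g (col F) (fun b => y * b = b * y) _ fun b _ => hiff b]
  obtain ⟨hy2, -⟩ := sq_conjs hy F
  have hyi : y⁻¹ = y := inv_eq_of_mul_eq_one_left hy2
  obtain ⟨a, ha, ha1, hya⟩ : ∃ a ∈ col F, a ≠ 1 ∧ y * a = a * y := by
    have hmem : ∀ a ∈ col F, y * a * y ∈ col F := fun a ha => by
      have : y * a * y⁻¹ ∈ cjS y (col F) := ⟨a, ha, rfl⟩
      rwa [hyn, hyi] at this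
    set a := F.f (colA 1) with hadef
    have ha : a ∈ col F := col_f F (by norm_num)
    by_cases h : a * (y * a * y) = 1
    · refine ⟨a, ha, fun e => ?_, ?_⟩
      · have := col_inj F (i := 1) (j := 0) (by norm_num) (by norm_num)
          (by rw [← hadef, e, colA_zero, F.one])
        omega
      · have haa : a * a = 1 := by
          rw [hadef, ← F.mul (colA_inC (by norm_num)) (colA_inC (by norm_num)),
            colA_mul (by norm_num) (by norm_num), Nat.xor_self, colA_zero, F.one]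
        have e2 : y * a * y = a := by
          calc y * a * y = a * a * (y * a * y) := by rw [haa, one_mul]
            _ = a * (a * (y * a * y)) := by rw [mul_assoc]
            _ = a := by rw [h, mul_one]
        calc y * a = (y * a * y) * y := by rw [mul_assoc (y * a), hy2, mul_one]
          _ = a * y := by rw [e2]
    · refine ⟨a * (y * a * y), mul_mem ha (hmem a ha), h, ?_⟩
      have hc : a * (y * a * y) = (y * a * y) * a := col_comm F ha (hmem a ha)
      calc y * (a * (y * a * y)) = (y * a * y) * a * y := by group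
        _ = a * (y * a * y) * y := by rw [← hc]
  obtain ⟨n, hn', hnt⟩ := exists_normalizer F (mask_mem F hM) ha ha1
  have hfix : cjS n (col F) = col F := by
    ext z
    rw [mem_cjS]
    have := mem_normalizer_iff.1 (inv_mem hn') z
    simpa [mul_assoc] using this.symm
  have hiff' : ∀ b : G, n⁻¹ * y * n * b = b * (n⁻¹ * y * n) ↔ y * (n * b * n⁻¹) = (n * b * n⁻¹) * y := by
    intro b
    conv_rhs => rw [show y = n * (n⁻¹ * y * n) * n⁻¹ by group]
    rw [conj_mul, conj_mul, mul_left_inj, mul_right_inj]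
  have key := count_conj F hM n (col F) (fun b => n⁻¹ * y * n * b = b * (n⁻¹ * y * n))
    (fun b => y * b = b * y) fun b _ => hiff' b
  rw [hfix] at key
  rw [key]
  have hct : n⁻¹ * y * n * t = t * (n⁻¹ * y * n) := by
    rw [hiff' t, hnt]; exact hya
  have hzA : n⁻¹ * y * n ∉ col F := fun h => hyA (by
    rw [← hfix]; exact mem_cjS.2 h)
  obtain ⟨c, hcC, hfc, -, hcl⟩ := code_isL F hM (by simpa using conj_isConj (g := n⁻¹) hy) hct hzA
  have h7 := List.all_eq_true.1 seven113 c hcl
  rw [Nat.beq_eq] at h7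
  rw [← h7, kA]
  refine count_col F hM _ _ fun j hj => ?_
  have hjC : InC (colA (j + 1)) := colA_inC (by omega)
  rw [Nat.beq_eq, ← hfc, ← F.mul hcC hjC, ← F.mul hjC hcC]
  exact ⟨fun e => congrArg F.f e.symm, fun e => (F.inj (hcC.mul hjC) (hjC.mul hcC) e).symm⟩

omit hM in
open scoped Classical in
/-- the conjugates normalised by an element -/
noncomputable def normalised (x : G) : Finset (Subgroup G) := (cols F).filter fun B => cjS x B = B

omit hM in
open scoped Classical in
/-- the neighbours of a conjugate -/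
noncomputable def nbs (B₀ : Subgroup G) : Finset (Subgroup G) :=
  (cols F).filter fun B => B ≠ B₀ ∧ ∃ a ∈ nontriv B₀, cjS a B = B

theorem nb_symm {B₀ B : Subgroup G} (h₀ : B₀ ∈ cols F) (h : B ∈ nbs F B₀) : B₀ ∈ nbs F B := by
  classical
  simp only [nbs, Finset.mem_filter] at h ⊢
  obtain ⟨hB, hne, a, ha, hn⟩ := h
  obtain ⟨ha, ha1⟩ := mem_nontriv.1 ha
  have hx := conj_of_mem F hM h₀ ha ha1
  have haB : a ∉ B := fun e => hne (cols_unique F hM hx hB h₀ e ha)
  have h7 := seven_fixed F hM hB hx hn haB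
  obtain ⟨b, hb⟩ := Finset.card_pos.1 (by rw [h7]; norm_num : 0 < ((nontriv B).filter fun b => a * b = b * a).card)
  obtain ⟨hb, hc⟩ := Finset.mem_filter.1 hb
  exact ⟨h₀, hne.symm, b, hb, cent_norm F hM h₀ ha ha1 hc.symm⟩

/-- a pure subgroup of order eight -/
theorem data_t {B : Subgroup G} (hB : B ∈ cols F) (hn : cjS t B = B) (htB : t ∉ B) :
    ∃ h : List ℕ, hOK h = true ∧ badH h = false ∧ (∀ c ∈ h, InC c ∧ F.f c ∈ B ∧ F.f c ≠ 1) ∧
      ∀ b ∈ B, b ≠ 1 → t * b = b * t → ∃ c ∈ h, F.f c = b := by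
  classical
  set H : Finset G := (nontriv B).filter fun b => t * b = b * t with hHdef
  have hH7 : H.card = 7 := seven_fixed F hM hB (IsConj.refl t) hn htB
  have hB2 : ∀ {a b : G}, a ∈ B → b ∈ B → a * b = b * a := by
    obtain ⟨g, rfl⟩ := (mem_cols F).1 hB
    rintro _ _ ⟨a, ha, rfl⟩ ⟨b, hb, rfl⟩
    rw [← map_mul, col_comm F ha hb, map_mul]
  have hne : B ≠ col F := fun e => htB (by rw [e]; exact t_mem_col F)
  have hmem : ∀ x ∈ H, ∃ c, InC c ∧ F.f c = x ∧ c ∈ l113 := by
    intro x hx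
    simp only [hHdef, Finset.mem_filter, mem_nontriv] at hx
    obtain ⟨⟨hxB, hx1⟩, hxc⟩ := hx
    have hX := conj_of_mem F hM hB hxB hx1
    obtain ⟨c, hc, e, -, hl⟩ := code_isL F hM hX hxc.symm fun hA =>
      hne (cols_unique F hM hX hB ((mem_cols F).2 ⟨1, cjS_one _⟩) hxB hA)
    exact ⟨c, hc, e, hl⟩
  choose! code hcC hcf hcl using hmem
  have hclosed : ∀ x ∈ H, ∀ y ∈ H, x ≠ y → x * y ∈ H := by
    intro x hx y hy hxy
    simp only [hHdef, Finset.mem_filter, mem_nontriv] at hx hy ⊢
    refine ⟨⟨mul_mem hx.1.1 hy.1.1, fun e => hxy ?_⟩, ?_⟩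
    · have h2 := (sq_conjs (conj_of_mem F hM hB hx.1.1 hx.1.2) F).1
      exact mul_left_cancel (h2.trans e.symm)
    · rw [← mul_assoc, hx.2, mul_assoc, hy.2, mul_assoc]
  have hinj : ∀ x ∈ H, ∀ y ∈ H, code x = code y → x = y := fun x hx y hy e => by
    rw [← hcf x hx, ← hcf y hy, e]
  have hmul : ∀ x ∈ H, ∀ y ∈ H, x ≠ y → mC (code x) (code y) = code (x * y) := fun x hx y hy hxy =>
    F.inj ((hcC x hx).mul (hcC y hy)) (hcC _ (hclosed x hx y hy hxy))
      (by rw [F.mul (hcC x hx) (hcC y hy), hcf x hx, hcf y hy, hcf _ (hclosed x hx y hy hxy)])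
  -- the generators in increasing order
  obtain ⟨a, ha, hamin⟩ := Finset.exists_min_image H code (Finset.card_pos.1 (by omega))
  obtain ⟨b, hb, hbmin⟩ := Finset.exists_min_image (H.erase a) code
    (Finset.card_pos.1 (by rw [Finset.card_erase_of_mem ha]; omega))
  obtain ⟨hba, hbH⟩ := Finset.mem_erase.1 hb
  have hab : a * b ∈ H := hclosed a ha b hbH hba.symm
  have hT : ({a, b, a * b} : Finset G).card ≤ 3 := Finset.card_le_three
  obtain ⟨c, hc, hcmin⟩ := Finset.exists_min_image (H \ {a, b, a * b}) code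
    (Finset.card_pos.1 (by have := Finset.le_card_sdiff ({a, b, a * b} : Finset G) H; omega))
  simp only [Finset.mem_sdiff, Finset.mem_insert, Finset.mem_singleton, not_or] at hc
  obtain ⟨hcH, hca, hcb, hcab⟩ := hc
  have hsq : ∀ x ∈ H, x * x = 1 := fun x hx => by
    simp only [hHdef, Finset.mem_filter, mem_nontriv] at hx
    exact (sq_conjs (conj_of_mem F hM hB hx.1.1 hx.1.2) F).1
  have h1 : ∀ x ∈ H, x ≠ 1 := fun x hx => by
    simp only [hHdef, Finset.mem_filter, mem_nontriv] at hx; exact hx.1.2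
  have hac : a * c ∈ H := hclosed a ha c hcH (Ne.symm hca)
  have hbc : b * c ∈ H := hclosed b hbH c hcH (Ne.symm hcb)
  have habc : a * b * c ∈ H := hclosed _ hab c hcH (Ne.symm hcab)
  have hcomm : ∀ x ∈ H, ∀ y ∈ H, x * y = y * x := fun x hx y hy => by
    simp only [hHdef, Finset.mem_filter, mem_nontriv] at hx hy; exact hB2 hx.1.1 hy.1.1
  have ecancel : ∀ {x y : G}, x * y = x → y = 1 := fun e => mul_left_cancel (e.trans (mul_one _).symm)
  have d1 : a * b ≠ a := fun e => h1 b hbH (ecancel e)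
  have d2 : a * b ≠ b := fun e => h1 a ha (mul_right_cancel (e.trans (one_mul b).symm))
  have d3 : a * c ≠ a := fun e => h1 c hcH (ecancel e)
  have d4 : a * c ≠ b := fun e => hcab (by rw [← e, ← mul_assoc, hsq a ha, one_mul])
  have d5 : a * c ≠ a * b := fun e => hcb (mul_left_cancel e)
  have d6 : a * c ≠ c := fun e => h1 a ha (mul_right_cancel (e.trans (one_mul c).symm))
  have d7 : b * c ≠ a := fun e => hcab (by
    rw [hcomm a ha b hbH, ← e, ← mul_assoc, hsq b hbH, one_mul])
  have d8 : b * c ≠ b := fun e => h1 c hcH (ecancel e)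
  have d9 : b * c ≠ a * b := fun e => hca (mul_left_cancel (e.trans (hcomm a ha b hbH)))
  have d10 : b * c ≠ c := fun e => h1 b hbH (mul_right_cancel (e.trans (one_mul c).symm))
  have d11 : a * b * c ≠ a := fun e => hcb (by
    rw [mul_assoc] at e
    exact mul_left_cancel ((ecancel e).trans (hsq b hbH).symm))
  have d12 : a * b * c ≠ b := fun e => hca (by
    rw [hcomm a ha b hbH, mul_assoc] at e
    exact mul_left_cancel ((ecancel e).trans (hsq a ha).symm))
  have d13 : a * b * c ≠ a * b := fun e => h1 c hcH (ecancel e)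
  have d14 : a * b * c ≠ c := fun e => h1 _ hab (mul_right_cancel (e.trans (one_mul c).symm))
  have d15 : a * b * c ≠ a * c := fun e => h1 b hbH (by
    rw [mul_assoc] at e
    exact mul_right_cancel ((mul_left_cancel e).trans (one_mul c).symm))
  have d16 : a * b * c ≠ b * c := fun e => h1 a ha (by
    rw [mul_assoc] at e
    exact mul_right_cancel (e.trans (one_mul (b * c)).symm))
  have d17 : b * c ≠ a * c := fun e => hba (mul_right_cancel e)
  have hlt : ∀ {x y : G}, x ∈ H → y ∈ H → code x ≤ code y → y ≠ x → code x < code y := fun hx hy h hne' =>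
    lt_of_le_of_ne h fun e => hne' (hinj _ hy _ hx e.symm)
  have bt : ∀ {m n : ℕ}, m < n → Nat.blt m n = true := fun h => by simpa [Nat.blt_eq] using h
  have l1 : code a < code b := hlt ha hbH (hamin b hbH) hba
  have l2 : code b < code (a * b) := hlt hbH hab (hbmin _ (Finset.mem_erase.2 ⟨d1, hab⟩)) d2
  have l3 : code b < code c := hlt hbH hcH (hbmin _ (Finset.mem_erase.2 ⟨hca, hcH⟩)) hcb
  have hsd : ∀ {x : G}, x ∈ H → x ≠ a → x ≠ b → x ≠ a * b → x ∈ H \ {a, b, a * b} := fun hx e1 e2 e3 => by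
    simp only [Finset.mem_sdiff, Finset.mem_insert, Finset.mem_singleton, not_or]
    exact ⟨hx, e1, e2, e3⟩
  have l4 : code c < code (a * c) := hlt hcH hac (hcmin _ (hsd hac d3 d4 d5)) d6
  have l5 : code c < code (b * c) := hlt hcH hbc (hcmin _ (hsd hbc d7 d8 d9)) d10
  have l6 : code c < code (a * b * c) := hlt hcH habc (hcmin _ (hsd habc d11 d12 d13)) d14
  have mab := hmul a ha b hbH hba.symm
  have mac := hmul a ha c hcH (Ne.symm hca)
  have mbc := hmul b hbH c hcH (Ne.symm hcb)
  have mabc := hmul _ hab c hcH (Ne.symm hcab)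
  set h := [code a, code b, code (a * b), code c, code (a * c), code (b * c), code (a * b * c)] with hh
  have hok : hOK h = true := by
    have H0 := subgroups113
    simp only [subgroupsOK, List.all_eq_true] at H0
    have := H0 _ (hcl a ha) _ (hcl b hbH)
    simp only [Bool.or_eq_true, Bool.not_eq_true', List.all_eq_true] at this
    have cc : ∀ x ∈ H, ∀ y ∈ H, Nat.beq (mC (code x) (code y)) (mC (code y) (code x)) = true := by
      intro x hx y hy
      rw [Nat.beq_eq]
      exact F.inj ((hcC x hx).mul (hcC y hy)) ((hcC y hy).mul (hcC x hx))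
        (by rw [F.mul (hcC x hx) (hcC y hy), F.mul (hcC y hy) (hcC x hx), hcf x hx, hcf y hy, hcomm x hx y hy])
    rcases this with h' | h'
    · simp [bt l1, cc a ha b hbH] at h'
    rcases h' with h' | h'
    · rw [mab] at h'
      simp [bt l2, inL_iff.2 (hcl _ hab)] at h'
    rcases h' _ (hcl c hcH) with h'' | h''
    · simp [bt l3, cc a ha c hcH, cc b hbH c hcH] at h''
    rw [tripleOK, mab, mac, mbc, mabc, bt l4, bt l5, bt l6,
      inL_iff.2 (hcl _ hac), inL_iff.2 (hcl _ hbc), inL_iff.2 (hcl _ habc)] at h''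
    simpa [hh] using h''
  have hall : ({a, b, a * b, c, a * c, b * c, a * b * c} : Finset G) = H := by
    refine Finset.eq_of_subset_of_card_le ?_ (le_of_eq ?_)
    · simp only [Finset.insert_subset_iff, Finset.singleton_subset_iff]
      exact ⟨ha, hbH, hab, hcH, hac, hbc, habc⟩
    · rw [hH7]
      symm
      have : [a, b, a * b, c, a * c, b * c, a * b * c].Nodup := by
        simp only [List.nodup_cons, List.mem_cons, List.not_mem_nil, or_false, not_or, List.nodup_nil, and_true,
          not_false_eq_true]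
        exact ⟨⟨hba.symm, d1.symm, Ne.symm hca, d3.symm, d7.symm, d11.symm⟩,
          ⟨d2.symm, Ne.symm hcb, d4.symm, d8.symm, d12.symm⟩,
          ⟨Ne.symm hcab, d5.symm, d9.symm, d13.symm⟩, ⟨d6.symm, d10.symm, d14.symm⟩,
          ⟨d17.symm, d15.symm⟩, d16.symm⟩
      have e := List.toFinset_card_of_nodup this
      simp only [List.toFinset_cons, List.toFinset_nil, List.length_cons, List.length_nil, insert_empty_eq] at e
      exact e
  have hh' : ∀ x : ℕ, x ∈ h ↔ ∃ y ∈ H, code y = x := by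
    intro x
    rw [← hall, hh]
    simp [eq_comm]
  have hcodes : ∀ x ∈ h, InC x ∧ F.f x ∈ B ∧ F.f x ≠ 1 := by
    intro x hx
    obtain ⟨y, hy, rfl⟩ := (hh' x).1 hx
    refine ⟨hcC y hy, ?_⟩
    rw [hcf y hy]
    simp only [hHdef, Finset.mem_filter, mem_nontriv] at hy
    exact hy.1
  have hback : ∀ b' ∈ B, b' ≠ 1 → t * b' = b' * t → ∃ x ∈ h, F.f x = b' := fun b' hb' h1' hc' => by
    have hy : b' ∈ H := by simp [hHdef, mem_nontriv, hb', h1', hc']
    exact ⟨code b', (hh' _).2 ⟨b', hy, rfl⟩, hcf b' hy⟩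
  refine ⟨h, hok, Bool.eq_false_iff.2 fun hbad => ?_, hcodes, hback⟩
  simp only [badH, List.any_eq_true, List.mem_range, Bool.and_eq_true, Nat.beq_eq, Bool.not_eq_true'] at hbad
  obtain ⟨j, hj, ⟨p, hp, hjp⟩, q, hq, hout⟩ := hbad
  obtain ⟨hpC, hpB, hp1⟩ := hcodes p hp
  obtain ⟨hqC, hqB, hq1⟩ := hcodes q hq
  have hjC : InC (colA j) := colA_inC hj
  set s := F.f (colA j) with hsdef
  have hsn : cjS s B = B := cent_norm F hM hB hpB hp1
    (by rw [hsdef, ← F.mul hjC hpC, hjp, F.mul hpC hjC])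
  have hss : s * s = 1 := by
    rw [hsdef, ← F.mul hjC hjC, colA_mul hj hj, Nat.xor_self, colA_zero, F.one]
  have hsi : s⁻¹ = s := inv_eq_of_mul_eq_one_left hss
  have hst : s * t = t * s := col_comm F (col_f F hj) (t_mem_col F)
  have hq' : s * F.f q * s ∈ B := by
    have : s * F.f q * s⁻¹ ∈ cjS s B := ⟨_, hqB, rfl⟩
    rwa [hsn, hsi] at this
  obtain ⟨x, hx, hfx⟩ := hback _ hq' (fun e => hq1 (by
    calc F.f q = s⁻¹ * (s * F.f q * s) * s⁻¹ := by group
      _ = 1 := by rw [e, mul_one, hsi, hss])) (by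
    have hqt : F.f q * t = t * F.f q := F.cent hqC
    calc t * (s * F.f q * s) = (t * s) * F.f q * s := by group
      _ = s * (t * F.f q) * s := by rw [← hst]; group
      _ = s * (F.f q * t) * s := by rw [hqt]
      _ = s * F.f q * (t * s) := by group
      _ = s * F.f q * s * t := by rw [← hst]; group)
  have : x = mC (mC (colA j) q) (colA j) := F.inj (hcodes x hx).1 ((hjC.mul hqC).mul hjC)
    (by rw [hfx, F.mul (hjC.mul hqC) hjC, F.mul hjC hqC])
  rw [← this, inL_iff.2 hx] at hout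
  exact Bool.noConfusion hout

open scoped Classical in
/-- the elements of the column group normalising another conjugate -/
theorem seven_t {B : Subgroup G} (hB : B ∈ cols F) (hn : cjS t B = B) (htB : t ∉ B) :
    ((nontriv (col F)).filter fun a => cjS a B = B).card = 7 := by
  obtain ⟨h, hok, hbad, hcodes, hback⟩ := data_t F hM hB hn htB
  rw [hOK, hbad, Bool.false_or, Bool.and_eq_true, Nat.beq_eq] at hok
  rw [← hok.1, cntA]
  refine count_col F hM _ _ fun j hj => ?_
  have hjC : InC (colA (j + 1)) := colA_inC (by omega)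
  have hjA : F.f (colA (j + 1)) ∈ col F := col_f F (by omega)
  have hj1 : F.f (colA (j + 1)) ≠ 1 := fun e => by
    have := col_inj F (i := j + 1) (j := 0) (by omega) (by norm_num) (by rw [e, colA_zero, F.one])
    omega
  simp only [List.any_eq_true, Nat.beq_eq]
  constructor
  · rintro ⟨p, hp, e⟩
    obtain ⟨hpC, hpB, hp1⟩ := hcodes p hp
    exact cent_norm F hM hB hpB hp1 (by rw [← F.mul hjC hpC, e, F.mul hpC hjC])
  · intro hs
    set s := F.f (colA (j + 1)) with hsdef
    have hsX : IsConj t s := col_conj_t F (mask_mem F hM) hjA hj1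
    have hne : B ≠ col F := fun e => htB (by rw [e]; exact t_mem_col F)
    have hsB : s ∉ B := fun e => hne (cols_unique F hM hsX hB ((mem_cols F).2 ⟨1, cjS_one _⟩) e hjA)
    have hcent : ∀ z : G, Nat.card (B ⊓ centralizer {z} : Subgroup G) =
        ((nontriv B).filter fun b => z * b = b * z).card + 1 := by
      intro z
      rw [← Nat.sub_add_cancel (Nat.card_pos : 0 < Nat.card (B ⊓ centralizer {z} : Subgroup G)), ← card_nontriv]
      congr 2
      ext b
      simp only [mem_nontriv, Finset.mem_filter, Subgroup.mem_inf, mem_centralizer_singleton_iff]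
      constructor
      · rintro ⟨⟨h1, h2⟩, h3⟩; exact ⟨⟨h1, h3⟩, h2.symm⟩
      · rintro ⟨⟨h1, h3⟩, h2⟩; exact ⟨⟨h1, h2.symm⟩, h3⟩
    obtain ⟨z, hz1, hz2, hz⟩ := exists_mem_inter B (B ⊓ centralizer {t}) (B ⊓ centralizer {s}) inf_le_left
      inf_le_left (by
        rw [hcent t, hcent s, seven_fixed F hM hB (IsConj.refl t) hn htB, seven_fixed F hM hB hsX hs hsB,
          cols_card F hM hB]
        norm_num)
    rw [Subgroup.mem_inf, mem_centralizer_singleton_iff] at hz1 hz2
    obtain ⟨p, hp, rfl⟩ := hback z hz1.1 hz hz1.2.symm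
    refine ⟨p, hp, F.inj (hjC.mul (hcodes p hp).1) ((hcodes p hp).1.mul hjC) ?_⟩
    rw [F.mul hjC (hcodes p hp).1, F.mul (hcodes p hp).1 hjC]
    exact hz2.2.symm

/-- conjugating the normalised conjugates -/
theorem norm_conj {g x : G} {B : Subgroup G} (h : cjS x B = B) : cjS (g * x * g⁻¹) (cjS g B) = cjS g B := by
  rw [cjS_cjS, show g * x * g⁻¹ * g = g * x by group, ← cjS_cjS, h]

open scoped Classical in
/-- seven elements of a conjugate normalise a neighbour -/
theorem seven_norm {B₀ B : Subgroup G} (h₀ : B₀ ∈ cols F) (hB : B ∈ nbs F B₀) :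
    ((nontriv B₀).filter fun a => cjS a B = B).card = 7 := by
  simp only [nbs, Finset.mem_filter] at hB
  obtain ⟨hB, hne, a, ha, hn⟩ := hB
  obtain ⟨ha, ha1⟩ := mem_nontriv.1 ha
  obtain ⟨g, rfl⟩ := isConj_iff.1 (conj_of_mem F hM h₀ ha ha1)
  obtain rfl := cols_eq F hM h₀ ha
  set B' := cjS g⁻¹ B with hB'
  have hgB : cjS g B' = B := by rw [hB', cjS_cjS, mul_inv_cancel, cjS_one]
  have hn' : cjS t B' = B' := by
    have := norm_conj F hM (g := g⁻¹) hn
    rwa [show g⁻¹ * (g * t * g⁻¹) * g⁻¹⁻¹ = t by group] at this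
  have ht : t ∉ B' := fun e => hne (cols_unique F hM (isConj_iff.2 ⟨g, rfl⟩) hB h₀
    (by rw [← hgB]; exact ⟨t, e, rfl⟩) ha)
  rw [← seven_t F hM (cols_cjS F hM hB g⁻¹) hn' ht]
  refine count_conj F hM g (col F) (fun a => cjS a B' = B') _ fun b _ => ⟨fun e => ?_, fun e => ?_⟩
  · rw [← hgB]; exact norm_conj F hM e
  · have := norm_conj F hM (g := g⁻¹) e
    rwa [show g⁻¹ * (g * b * g⁻¹) * g⁻¹⁻¹ = b by group] at this

/-- two conjugates normalised by the transvection are neighbours -/
theorem meet_t {B₁ B₂ : Subgroup G} (h1 : B₁ ∈ cols F) (n1 : cjS t B₁ = B₁) (t1 : t ∉ B₁)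
    (h2 : B₂ ∈ cols F) (n2 : cjS t B₂ = B₂) (t2 : t ∉ B₂) :
    ∃ b ∈ B₁, b ≠ 1 ∧ cjS b B₂ = B₂ := by
  obtain ⟨l₁, ok1, bad1, c1, -⟩ := data_t F hM h1 n1 t1
  obtain ⟨l₂, ok2, bad2, c2, -⟩ := data_t F hM h2 n2 t2
  rw [hOK, bad1, Bool.false_or, Bool.and_eq_true] at ok1
  rw [hOK, bad2, Bool.false_or, Bool.and_eq_true] at ok2
  obtain ⟨g1, hg1, e1⟩ := List.any_eq_true.1 ok1.2
  obtain ⟨g2, hg2, e2⟩ := List.any_eq_true.1 ok2.2
  have h := List.all_eq_true.1 (List.all_eq_true.1 meet113 g1 hg1) g2 hg2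
  simp only [List.any_eq_true, Nat.beq_eq] at h
  obtain ⟨b, hb, c, hc, hbc⟩ := h
  obtain ⟨hbC, hbB, hb1⟩ := c1 b (inL_iff.1 (List.all_eq_true.1 e1 b hb))
  obtain ⟨hcC, hcB, hc1⟩ := c2 c (inL_iff.1 (List.all_eq_true.1 e2 c hc))
  exact ⟨F.f b, hbB, hb1, cent_norm F hM h2 hcB hc1 (by rw [← F.mul hbC hcC, hbc, F.mul hcC hbC])⟩

/-- two conjugates normalised by a common element of a third are equal or neighbours -/
theorem meet {x : G} (hx : IsConj t x) {B₁ B₂ : Subgroup G} (h1 : B₁ ∈ cols F) (n1 : cjS x B₁ = B₁)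
    (x1 : x ∉ B₁) (h2 : B₂ ∈ cols F) (n2 : cjS x B₂ = B₂) (x2 : x ∉ B₂) (hne : B₂ ≠ B₁) :
    B₂ ∈ nbs F B₁ := by
  classical
  obtain ⟨g, rfl⟩ := isConj_iff.1 hx
  have e : ∀ B : Subgroup G, cjS (g * t * g⁻¹) B = B → cjS t (cjS g⁻¹ B) = cjS g⁻¹ B := fun B h => by
    have := norm_conj F hM (g := g⁻¹) h
    rwa [show g⁻¹ * (g * t * g⁻¹) * g⁻¹⁻¹ = t by group] at this
  have m : ∀ B : Subgroup G, g * t * g⁻¹ ∉ B → t ∉ cjS g⁻¹ B := fun B h h' => h (by
    rw [mem_cjS, inv_inv] at h'; exact h')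
  obtain ⟨b, hb, hb1, hbn⟩ := meet_t F hM (cols_cjS F hM h1 g⁻¹) (e _ n1) (m _ x1) (cols_cjS F hM h2 g⁻¹)
    (e _ n2) (m _ x2)
  simp only [nbs, Finset.mem_filter]
  refine ⟨h2, hne, g * b * g⁻¹, mem_nontriv.2 ⟨?_, fun h => hb1 (conj_eq_one_iff.1 h)⟩, ?_⟩
  · rw [mem_cjS, inv_inv] at hb; exact hb
  · have := norm_conj F hM (g := g) hbn
    rwa [cjS_cjS g g⁻¹, mul_inv_cancel, cjS_one] at this

/-- the neighbours of neighbours -/
theorem nb_trans {B₀ B₁ B₂ : Subgroup G} (h₀ : B₀ ∈ cols F) (h1 : B₁ ∈ nbs F B₀) (h2 : B₂ ∈ nbs F B₀)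
    (hne : B₂ ≠ B₁) : B₂ ∈ nbs F B₁ := by
  classical
  have H : ∀ {B : Subgroup G}, B ∈ nbs F B₀ → ∃ K : Subgroup G, K ≤ B₀ ∧ Nat.card K = 8 ∧
      ∀ a ∈ K, cjS a B = B := by
    intro B hB
    let K : Subgroup G :=
      { carrier := {a | a ∈ B₀ ∧ cjS a B = B}
        one_mem' := ⟨one_mem _, cjS_one B⟩
        mul_mem' := fun {a b} ha hb => ⟨mul_mem ha.1 hb.1, by rw [← cjS_cjS, hb.2, ha.2]⟩
        inv_mem' := fun {a} ha => ⟨inv_mem ha.1, by
          calc cjS a⁻¹ B = cjS a⁻¹ (cjS a B) := by rw [ha.2]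
            _ = B := by rw [cjS_cjS, inv_mul_cancel, cjS_one]⟩ }
    refine ⟨K, fun a ha => ha.1, ?_, fun a ha => ha.2⟩
    have hs : (nontriv K).card = 7 := by
      rw [← seven_norm F hM h₀ hB]
      congr 1
      ext a
      simp only [mem_nontriv, Finset.mem_filter]
      exact ⟨fun ⟨⟨h, h'⟩, h''⟩ => ⟨⟨h, h''⟩, h'⟩, fun ⟨⟨h, h''⟩, h'⟩ => ⟨⟨h, h'⟩, h''⟩⟩
    have := card_nontriv K
    have := (Nat.card_pos : 0 < Nat.card K)
    omega
  obtain ⟨K₁, le1, k1, n1⟩ := H h1
  obtain ⟨K₂, le2, k2, n2⟩ := H h2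
  obtain ⟨a, a1, a2, ha⟩ := exists_mem_inter B₀ K₁ K₂ le1 le2 (by rw [k1, k2, cols_card F hM h₀]; norm_num)
  simp only [nbs, Finset.mem_filter] at h1 h2
  have hx := conj_of_mem F hM h₀ (le1 a1) ha
  exact meet F hM hx h1.1 (n1 a a1) (fun e => h1.2.1 (cols_unique F hM hx h1.1 h₀ e (le1 a1))) h2.1 (n2 a a2)
    (fun e => h2.2.1 (cols_unique F hM hx h2.1 h₀ e (le1 a1))) hne

theorem col_mem : col F ∈ cols F := (mem_cols F).2 ⟨1, cjS_one _⟩

include hG

theorem card_conjs : (conjs t).card * 21504 = 4030387200 := by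
  classical
  have h := card_class t
  have hc : Nat.card (centralizer ({t} : Set G)) = 21504 := by
    rw [← cnt_true 21504, ← card_code F (fun _ => True) (fun _ => true) fun i _ => by simp]
    exact Nat.card_congr (Equiv.subtypeEquivRight fun x => by simp [mem_centralizer_singleton_iff])
  rw [hc, hG, Nat.card_eq_fintype_card, Fintype.card_subtype] at h
  rw [← h]; rfl

theorem card_cols : (cols F).card = 12495 := by
  classical
  have h : conjs t = (cols F).biUnion nontriv := by
    ext x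
    rw [mem_conjs, Finset.mem_biUnion]
    constructor
    · intro hx
      obtain ⟨g, rfl⟩ := isConj_iff.1 hx
      exact ⟨_, (mem_cols F).2 ⟨g, rfl⟩, mem_nontriv.2 ⟨⟨t, t_mem_col F, rfl⟩, (sq_conjs hx F).2⟩⟩
    · rintro ⟨B, hB, hx⟩
      exact conj_of_mem F hM hB (mem_nontriv.1 hx).1 (mem_nontriv.1 hx).2
  have hd : ((cols F : Finset _) : Set (Subgroup G)).PairwiseDisjoint nontriv := fun B hB B' hB' hne =>
    Finset.disjoint_left.2 fun x hx hx' => hne (cols_unique F hM
      (conj_of_mem F hM hB (mem_nontriv.1 hx).1 (mem_nontriv.1 hx).2) hB hB' (mem_nontriv.1 hx).1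
      (mem_nontriv.1 hx').1)
  have := card_conjs F hG hM
  rw [h, Finset.card_biUnion hd, Finset.sum_const_nat fun B hB => by
    rw [card_nontriv, cols_card F hM hB]] at this
  omega

omit hG in
open scoped Classical in
/-- the outside normalisers of the column group in the class -/
theorem card_outside : ((conjs t).filter fun x => cjS x (col F) = col F ∧ x ∉ col F).card = 210 := by
  set R := (conjs t).filter fun x => cjS x (col F) = col F ∧ x ∉ col F with hR
  have h1 : ∀ x ∈ R, ((nontriv (col F)).filter fun a => x * a = a * x).card = 7 := fun x hx => by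
    simp only [hR, Finset.mem_filter, mem_conjs] at hx
    exact seven_fixed F hM (col_mem F hM) hx.1 hx.2.1 hx.2.2
  have h2 : ∀ a ∈ nontriv (col F), (R.filter fun x => x * a = a * x).card = 98 := by
    intro a ha
    obtain ⟨ha, ha1⟩ := mem_nontriv.1 ha
    obtain ⟨g, rfl⟩ := isConj_iff.1 (col_conj_t F (mask_mem F hM) ha ha1)
    have hg : cjS g (col F) = col F := (cols_eq F hM (col_mem F hM) ha).symm
    rw [← count113, ← card_code F (fun y => IsConj t y ∧ y ∉ col F) (fun i => isL (cd i)) ?_,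
      ← Nat.card_eq_finsetCard]
    · refine (Nat.card_congr ((MulAut.conj g).toEquiv.subtypeEquiv fun y => ?_)).symm
      show _ ↔ g * y * g⁻¹ ∈ _
      have hy : g * y * g⁻¹ * (g * t * g⁻¹) = g * t * g⁻¹ * (g * y * g⁻¹) ↔ y * t = t * y := by
        rw [conj_mul, conj_mul, mul_left_inj, mul_right_inj]
      have hA : g * y * g⁻¹ ∈ col F ↔ y ∈ col F := by
        conv_lhs => rw [← hg, mem_cjS]
        simp [mul_assoc]
      simp only [hR, Finset.mem_filter, mem_conjs, hy, hA]
      constructor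
      · rintro ⟨h1, h2, h3⟩
        refine ⟨⟨conj_isConj h2, ?_, h3⟩, h1⟩
        exact cent_norm F hM (col_mem F hM) ha ha1 (hy.2 h1)
      · rintro ⟨⟨h2, -, h3⟩, h1⟩
        refine ⟨h1, ?_, h3⟩
        simpa [mul_assoc] using conj_isConj (g := g⁻¹) h2
    · intro i hi
      simp only [isL, Bool.and_eq_true, Nat.beq_eq, Nat.blt_eq, Bool.not_eq_true']
      constructor
      · rintro ⟨⟨⟨-, hl⟩, hb⟩, hin⟩
        refine ⟨(conj_iff F hl).2 (hM ▸ hb), fun ⟨j, hj, e⟩ => ?_⟩
        have := F.inj (colA_inC hj) (inC_cd hi) e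
        rw [← this, show inA (colA j) = true from List.any_eq_true.2 ⟨j, List.mem_range.2 hj, Nat.beq_refl _⟩] at hin
        exact Bool.noConfusion hin
      · rintro ⟨hx, hA⟩
        obtain ⟨c, hc, e, hl, -⟩ := code_isL F hM hx (F.cent (inC_cd hi)) hA
        obtain rfl := F.inj hc (inC_cd hi) e
        simpa [isL, Nat.blt_eq] using hl
  have h := Finset.sum_card_bipartiteAbove_eq_sum_card_bipartiteBelow
    (s := R) (t := nontriv (col F)) (fun x a => x * a = a * x)
  simp only [Finset.bipartiteAbove, Finset.bipartiteBelow] at h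
  rw [Finset.sum_const_nat h1, Finset.sum_const_nat h2, card_nontriv, card_col] at h
  omega

omit hG in
open scoped Classical in
theorem card_normalising {B : Subgroup G} (hB : B ∈ cols F) :
    ((conjs t).filter fun x => cjS x B = B).card = 225 := by
  have hA : ((conjs t).filter fun x => cjS x (col F) = col F).card = 225 := by
    have hin : (conjs t).filter (fun x => cjS x (col F) = col F ∧ x ∈ col F) = nontriv (col F) := by
      ext x
      simp only [Finset.mem_filter, mem_conjs, mem_nontriv]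
      refine ⟨fun ⟨h, _, hx⟩ => ⟨hx, (sq_conjs h F).2⟩, fun ⟨hx, h1⟩ =>
        ⟨col_conj_t F (mask_mem F hM) hx h1, cent_norm F hM (col_mem F hM) hx h1 rfl, hx⟩⟩
    rw [← Finset.card_filter_add_card_filter_not (s := (conjs t).filter fun x => cjS x (col F) = col F)
      (p := fun x => x ∈ col F), Finset.filter_filter, Finset.filter_filter, hin, card_outside F hM,
      card_nontriv, card_col]
  obtain ⟨g, rfl⟩ := (mem_cols F).1 hB
  rw [← hA]
  refine Finset.card_bij' (fun x _ => g⁻¹ * x * g) (fun x _ => g * x * g⁻¹) ?_ ?_ ?_ ?_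
  · intro x hx
    simp only [Finset.mem_filter, mem_conjs] at hx ⊢
    refine ⟨by simpa using conj_isConj (g := g⁻¹) hx.1, ?_⟩
    have := norm_conj F hM (g := g⁻¹) hx.2
    rwa [inv_inv, cjS_cjS g⁻¹ g, inv_mul_cancel, cjS_one] at this
  · intro x hx
    simp only [Finset.mem_filter, mem_conjs] at hx ⊢
    exact ⟨conj_isConj hx.1, norm_conj F hM hx.2⟩
  · intro x _; group
  · intro x _; group

open scoped Classical in
/-- each element of the class normalises fifteen conjugates -/
theorem card_normalised {x : G} (hx : IsConj t x) : (normalised F x).card = 15 := by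
  have hsame : ∀ y ∈ conjs t, (normalised F y).card = (normalised F t).card := by
    intro y hy
    obtain ⟨g, rfl⟩ := isConj_iff.1 (mem_conjs.1 hy)
    refine Finset.card_bij' (fun B _ => cjS g⁻¹ B) (fun B _ => cjS g B) ?_ ?_ ?_ ?_
    · intro B hB
      simp only [normalised, Finset.mem_filter] at hB ⊢
      refine ⟨cols_cjS F hM hB.1 _, ?_⟩
      have := norm_conj F hM (g := g⁻¹) hB.2
      rwa [show g⁻¹ * (g * t * g⁻¹) * g⁻¹⁻¹ = t by group] at this
    · intro B hB
      simp only [normalised, Finset.mem_filter] at hB ⊢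
      exact ⟨cols_cjS F hM hB.1 _, norm_conj F hM hB.2⟩
    · intro B _; rw [cjS_cjS, mul_inv_cancel, cjS_one]
    · intro B _; rw [cjS_cjS, inv_mul_cancel, cjS_one]
  rw [hsame x (mem_conjs.2 hx)]
  have h := Finset.sum_card_bipartiteAbove_eq_sum_card_bipartiteBelow
    (s := conjs t) (t := cols F) (fun x B => cjS x B = B)
  simp only [Finset.bipartiteAbove, Finset.bipartiteBelow] at h
  rw [Finset.sum_const_nat (m := 225) fun B hB => card_normalising F hM hB,
    Finset.sum_const_nat (m := (normalised F t).card) (f := fun y => ((cols F).filter fun B => cjS y B = B).card)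
      fun y hy => hsame y hy, card_cols F hG hM] at h
  have hX := card_conjs F hG hM
  have hX' : (conjs t).card = 187425 := by omega
  rw [hX'] at h
  omega

open scoped Classical in
/-- thirty neighbours -/
theorem card_nbs {B₀ : Subgroup G} (h₀ : B₀ ∈ cols F) : (nbs F B₀).card = 30 := by
  have h := Finset.sum_card_bipartiteAbove_eq_sum_card_bipartiteBelow
    (s := nontriv B₀) (t := nbs F B₀) (fun a B => cjS a B = B)
  simp only [Finset.bipartiteAbove, Finset.bipartiteBelow] at h
  rw [Finset.sum_const_nat (m := 14) fun a ha => ?_, Finset.sum_const_nat (m := 7) fun B hB =>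
    seven_norm F hM h₀ hB, card_nontriv, cols_card F hM h₀] at h
  · omega
  obtain ⟨ha', ha1⟩ := mem_nontriv.1 ha
  have hx := conj_of_mem F hM h₀ ha' ha1
  have hmem : B₀ ∈ normalised F a :=
    Finset.mem_filter.2 ⟨h₀, cent_norm F hM h₀ ha' ha1 rfl⟩
  have he : (nbs F B₀).filter (fun B => cjS a B = B) = (normalised F a).erase B₀ := by
    ext B
    simp only [nbs, normalised, Finset.mem_filter, Finset.mem_erase]
    exact ⟨fun ⟨⟨h1, h2, _⟩, h3⟩ => ⟨h2, h1, h3⟩, fun ⟨h2, h1, h3⟩ => ⟨⟨h1, h2, a, ha, h3⟩, h3⟩⟩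
  rw [he, Finset.card_erase_of_mem hmem, card_normalised F hG hM hx]

open scoped Classical in
theorem pattern_113_false : False := by
  set cl : Subgroup G → Finset (Subgroup G) := fun B => insert B (nbs F B) with hcl
  have hself : ∀ B, B ∈ nbs F B → False := fun B h => by
    simp only [nbs, Finset.mem_filter] at h
    exact h.2.1 rfl
  have hcols : ∀ {B₀ B}, B ∈ nbs F B₀ → B ∈ cols F := fun h => (Finset.mem_filter.1 h).1
  have hstep : ∀ {B₀ B₁}, B₀ ∈ cols F → B₁ ∈ nbs F B₀ → cl B₀ ⊆ cl B₁ := by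
    intro B₀ B₁ h₀ h1 C hC
    simp only [hcl, Finset.mem_insert] at hC ⊢
    rcases hC with rfl | hC
    · exact Or.inr (nb_symm F hM h₀ h1)
    · by_cases hne : C = B₁
      · exact Or.inl hne
      · exact Or.inr (nb_trans F hM h₀ h1 hC hne)
  have hclass : ∀ {B₀ B₁}, B₀ ∈ cols F → B₁ ∈ cl B₀ → cl B₁ = cl B₀ := by
    intro B₀ B₁ h₀ h1
    rcases Finset.mem_insert.1 h1 with rfl | h1
    · rfl
    · exact le_antisymm (hstep (hcols h1) (nb_symm F hM h₀ h1)) (hstep h₀ h1)
  have hfib : ∀ T ∈ (cols F).image cl, ((cols F).filter fun B => cl B = T).card = 31 := by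
    intro T hT
    obtain ⟨B₀, h₀, rfl⟩ := Finset.mem_image.1 hT
    have : (cols F).filter (fun B => cl B = cl B₀) = cl B₀ := by
      ext B
      rw [Finset.mem_filter]
      refine ⟨fun ⟨_, e⟩ => e ▸ Finset.mem_insert_self _ _, fun h => ⟨?_, hclass h₀ h⟩⟩
      rcases Finset.mem_insert.1 h with rfl | h
      exacts [h₀, hcols h]
    rw [this, hcl, Finset.card_insert_of_notMem (hself B₀), card_nbs F hG hM h₀]
  have h := Finset.card_eq_sum_card_image cl (cols F)
  rw [Finset.sum_const_nat hfib, card_cols F hG hM] at h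
  omega

omit hG hM in
/-- the pattern with mask 113 does not occur -/
theorem no_113 {G : Type*} [Group G] [Finite G] {t : G} (F : Frame G t) (hG : Nat.card G = 4030387200) :
    mask F ≠ 113 := by
  haveI : Fintype G := Fintype.ofFinite G
  exact fun hM => pattern_113_false F hG hM

end Cfsg.Agent.HeUniq.Excl
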