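import Cfsg.Agent.Lib.HeUniq.Excl.Column
import Cfsg.Agent.Lib.HeUniq.Excl.Count
import Mathlib.Algebra.BigOperators.Group.Finset.Piecewise

/-! The conjugates of `t` centralising an element of the column group, counted; two patterns excluded. -/

set_option autoImplicit false
set_option maxRecDepth 20000

namespace Cfsg.Agent.HeUniq.Excl

open Cfsg.Agent.HeUniq.Model Cfsg.Agent.HeUniq.Fus Subgroup

theorem wSum_eq (m : ℕ) : ∀ n : ℕ,
    (Nat.rec 0 (fun j r => Nat.add r (wOf m j)) n : ℕ) = ∑ j ∈ Finset.range n, wOf m j := by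
  intro n
  induction n with
  | zero => rfl
  | succ n ih => rw [Finset.sum_range_succ, ← ih]; rfl

theorem wSum_sum (m : ℕ) : wSum m = ∑ j ∈ Finset.range 575, wOf m j := wSum_eq m 575

variable {G : Type*} [Group G] [Finite G] {t : G} (F : Frame G t)

include F in
omit [Finite G] in
theorem card_cent : Nat.card (centralizer ({t} : Set G)) = 21504 := by
  have e : Nat.card (centralizer ({t} : Set G)) = Nat.card {x : G // x * t = t * x ∧ True} :=
    Nat.card_congr (Equiv.subtypeEquivRight fun x => by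
      rw [mem_centralizer_singleton_iff, and_true])
  rw [e, card_code F (fun _ => True) (fun _ => true) (fun _ _ => by simp), cnt_eq_card, Finset.filter_true_of_mem
    (fun _ _ => rfl), Finset.card_range]

omit [Finite G] in
theorem iv_facts {j : ℕ} (hj : j < 575) :
    InC (ivCode j) ∧ cls (ivCode j) = ivCls j ∧ ivCls j < 8 ∧ pos (ivCode j) = j := by
  have he := allB_spec ents_ok j hj
  simp only [entOK, Bool.and_eq_true, Nat.blt_eq] at he
  have hp : pos (ivCode j) = j := Nat.eq_of_beq_eq_true (allB_spec pos_ok j hj)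
  refine ⟨inC_cd he.1.1.1.1, ?_, Nat.mod_lt _ (by norm_num), hp⟩
  unfold cls
  rw [hp, Nat.beq_refl, cond_true]

attribute [local irreducible] wSum

variable (hm : mask F ∈ ([96, 113, 115] : List ℕ))

include hm

open scoped Classical in
theorem union_card : 105 * Nat.card {y : G // IsConj t y ∧ ∃ a ∈ col F, a ≠ 1 ∧ a * y = y * a} =
    15 * wSum (mask F) := by
  haveI := Fintype.ofFinite G
  set Ah : Finset G := Finset.univ.filter fun a => a ∈ col F ∧ a ≠ 1 with hAh
  set X : Finset G := Finset.univ.filter fun y => IsConj t y with hX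
  let k : G → ℕ := fun y => (Ah.filter fun a => a * y = y * a).card
  have memAh : ∀ {a}, a ∈ Ah ↔ a ∈ col F ∧ a ≠ 1 := fun {a} => by simp [hAh]
  have hAhcard : Ah.card = 15 := by
    have h16 := card_col F
    have : Ah = (Finset.univ.filter fun a => a ∈ col F).erase 1 := by
      ext a; simp [memAh, and_comm]
    rw [this, Finset.card_erase_of_mem (by simp [one_mem]), ← Fintype.card_subtype, ← Nat.card_eq_fintype_card]
    exact (congrArg (· - 1) h16).trans rfl
  have kconj : ∀ {n : G}, n ∈ normalizer (col F : Set G) → ∀ y, k (n * y * n⁻¹) = k y := by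
    intro n hn y
    symm
    refine Finset.card_bij (fun a _ => n * a * n⁻¹) ?_ ?_ ?_
    · intro a ha
      rw [Finset.mem_filter, memAh] at ha ⊢
      exact ⟨⟨(mem_normalizer_iff.1 hn a).1 ha.1.1, fun e => ha.1.2 (conj_eq_one_iff.1 e)⟩,
        by rw [conj_mul, conj_mul, ha.2]⟩
    · intro a _ b _ e; exact mul_left_cancel (mul_right_cancel e)
    · intro b hb
      rw [Finset.mem_filter, memAh] at hb
      have he : n * (n⁻¹ * b * n) * n⁻¹ = b := by group
      refine ⟨n⁻¹ * b * n, ?_, he⟩
      rw [Finset.mem_filter, memAh]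
      refine ⟨⟨(mem_normalizer_iff.1 hn _).2 (he.symm ▸ hb.1.1), fun e => hb.1.2 (by rw [← he, e]; group)⟩, ?_⟩
      refine mul_left_cancel (a := n) (mul_right_cancel (b := n⁻¹) ?_)
      rw [show n * (n⁻¹ * b * n * y) * n⁻¹ = b * (n * y * n⁻¹) by group,
        show n * (y * (n⁻¹ * b * n)) * n⁻¹ = n * y * n⁻¹ * b by group]
      exact hb.2
  have kcode : ∀ {a : ℕ}, InC a → k (F.f a) = kA a := by
    intro a ha
    show _ = cnt (fun j => Nat.beq (mC (colA (j + 1)) a) (mC a (colA (j + 1)))) 15
    rw [cnt_eq_card]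
    symm
    refine Finset.card_bij (fun j _ => F.f (colA (j + 1))) ?_ ?_ ?_
    · intro j hj
      rw [Finset.mem_filter, Finset.mem_range, Nat.beq_eq] at hj
      rw [Finset.mem_filter, memAh, ← F.mul (colA_inC (by omega)) ha, ← F.mul ha (colA_inC (by omega)), hj.2]
      exact ⟨⟨col_f F (by omega), fun e => absurd (col_inj F (i := j + 1) (j := 0) (by omega) (by norm_num)
        (by rw [e, colA_zero, F.one])) (by omega)⟩, rfl⟩
    · intro i hi j hj e
      rw [Finset.mem_filter, Finset.mem_range] at hi hj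
      have := col_inj F (i := i + 1) (j := j + 1) (by omega) (by omega) e
      omega
    · intro b hb
      rw [Finset.mem_filter, memAh] at hb
      obtain ⟨⟨⟨j, hj, rfl⟩, hne⟩, hc⟩ := hb
      have h0 : j ≠ 0 := by rintro rfl; exact hne (by rw [colA_zero, F.one])
      refine ⟨j - 1, ?_, by rw [Nat.sub_add_cancel (by omega)]⟩
      rw [Finset.mem_filter, Finset.mem_range, Nat.sub_add_cancel (by omega), Nat.beq_eq]
      refine ⟨by omega, F.inj ((colA_inC hj).mul ha) (ha.mul (colA_inC hj)) ?_⟩
      rw [F.mul (colA_inC hj) ha, F.mul ha (colA_inC hj)]; exact hc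
  have norm_move : ∀ {a}, a ∈ Ah → ∃ n, n ∈ normalizer (col F : Set G) ∧ n * t * n⁻¹ = a := fun {a} ha =>
    exists_normalizer F hm (memAh.1 ha).1 (memAh.1 ha).2
  -- the local sum
  have hloc : ∑ y ∈ X.filter (fun y => y * t = t * y), 105 / k y = wSum (mask F) := by
    obtain ⟨N, hN⟩ : ∃ N, N = 575 := ⟨575, rfl⟩
    rw [wSum_sum, ← hN]
    have hw : ∀ j ∈ Finset.range N, wOf (mask F) j =
        if (mask F).testBit (ivCls j) then 105 / kA (ivCode j) else 0 := by
      intro j _
      rw [wOf]
      cases (mask F).testBit (ivCls j)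
      · rw [cond_false, if_neg Bool.false_ne_true]
      · rw [cond_true, if_pos rfl]
    rw [Finset.sum_congr rfl hw, ← Finset.sum_filter]
    symm
    refine Finset.sum_bij (fun j _ => F.f (ivCode j)) ?_ ?_ ?_ ?_
    · intro j hj
      rw [Finset.mem_filter, Finset.mem_range] at hj
      obtain ⟨hc, hcl, hl, -⟩ := iv_facts (hN ▸ hj.1)
      simp only [hX, Finset.mem_filter, Finset.mem_univ, true_and]
      exact ⟨(conj_iff F (by rw [hcl]; exact hl)).2 (by rw [hcl]; exact hj.2), F.cent hc⟩
    · intro i hi j hj e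
      rw [Finset.mem_filter, Finset.mem_range] at hi hj
      obtain ⟨hci, -, -, hpi⟩ := iv_facts (hN ▸ hi.1)
      obtain ⟨hcj, -, -, hpj⟩ := iv_facts (hN ▸ hj.1)
      rw [← hpi, F.inj hci hcj e, hpj]
    · intro y hy
      simp only [hX, Finset.mem_filter, Finset.mem_univ, true_and] at hy
      obtain ⟨a, ha, rfl⟩ := F.surj y hy.2
      have hl : cls a < 8 := by
        obtain ⟨g, hg⟩ := isConj_iff.1 hy.1
        refine cls_lt ha (F.inj (ha.mul ha) inC_one ?_) fun e => ?_
        · rw [F.mul ha ha, ← hg, conj_mul, sq_t F, F.one, mul_one, mul_inv_cancel]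
        · rw [e, F.one] at hg; exact t_ne_one F (conj_eq_one_iff.1 hg)
      have hp : pos a < 575 := rep_cd.pos_lt a
      have hcode : ivCode (pos a) = a := by
        have := hl; unfold cls at this
        cases hq : Nat.beq (ivCode (pos a)) a
        · rw [hq] at this; simp at this
        · exact Nat.eq_of_beq_eq_true hq
      refine ⟨pos a, Finset.mem_filter.2 ⟨Finset.mem_range.2 (hN ▸ hp), ?_⟩, by rw [hcode]⟩
      rw [← (iv_facts hp).2.1, hcode]
      exact (conj_iff F hl).1 hy.1
    · intro j hj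
      rw [Finset.mem_filter, Finset.mem_range] at hj
      rw [kcode (iv_facts (hN ▸ hj.1)).1]
  -- the sum over one element of the column group
  have hone : ∀ a ∈ Ah, ∑ y ∈ X.filter (fun y => a * y = y * a), 105 / k y = wSum (mask F) := by
    intro a ha
    obtain ⟨n, hn, hna⟩ := norm_move ha
    rw [← hloc]
    symm
    refine Finset.sum_bij (fun y _ => n * y * n⁻¹) ?_ ?_ ?_ ?_
    · intro y hy
      simp only [hX, Finset.mem_filter, Finset.mem_univ, true_and] at hy ⊢
      exact ⟨hy.1.trans (isConj_iff.2 ⟨n, rfl⟩), by rw [← hna, conj_mul, conj_mul, hy.2]⟩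
    · intro y _ z _ e; exact mul_left_cancel (mul_right_cancel e)
    · intro z hz
      simp only [hX, Finset.mem_filter, Finset.mem_univ, true_and] at hz
      refine ⟨n⁻¹ * z * n, ?_, by group⟩
      simp only [hX, Finset.mem_filter, Finset.mem_univ, true_and]
      refine ⟨hz.1.trans (isConj_iff.2 ⟨n⁻¹, by group⟩), mul_left_cancel (a := n) (mul_right_cancel (b := n⁻¹) ?_)⟩
      rw [show n * (n⁻¹ * z * n * t) * n⁻¹ = z * (n * t * n⁻¹) by group,
        show n * (t * (n⁻¹ * z * n)) * n⁻¹ = n * t * n⁻¹ * z by group, hna]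
      exact hz.2.symm
    · intro y _; rw [kconj hn]
  -- every weight divides
  have hdiv : ∀ y ∈ X, ∀ a ∈ Ah, a * y = y * a → k y * (105 / k y) = 105 := by
    intro y hy a ha hay
    obtain ⟨n, hn, hna⟩ := norm_move ha
    simp only [hX, Finset.mem_filter, Finset.mem_univ, true_and] at hy
    have hc : (n⁻¹ * y * n) * t = t * (n⁻¹ * y * n) := by
      refine mul_left_cancel (a := n) (mul_right_cancel (b := n⁻¹) ?_)
      rw [show n * (n⁻¹ * y * n * t) * n⁻¹ = y * (n * t * n⁻¹) by group,
        show n * (t * (n⁻¹ * y * n)) * n⁻¹ = n * t * n⁻¹ * y by group, hna]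
      exact hay.symm
    obtain ⟨c, hcC, hcv⟩ := F.surj _ hc
    have hk : k y = kA c := by
      rw [← kcode hcC, hcv]
      conv_lhs => rw [show y = n * (n⁻¹ * y * n) * n⁻¹ by group]
      rw [kconj hn]
    have hl : cls c < 8 := by
      obtain ⟨g, hg⟩ := isConj_iff.1 (hy.trans (isConj_iff.2 ⟨n⁻¹, by group⟩ : IsConj y (n⁻¹ * y * n)))
      rw [← hcv] at hg
      refine cls_lt hcC (F.inj (hcC.mul hcC) inC_one ?_) fun e => ?_
      · rw [F.mul hcC hcC, ← hg, conj_mul, sq_t F, F.one, mul_one, mul_inv_cancel]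
      · rw [e, F.one] at hg; exact t_ne_one F (conj_eq_one_iff.1 hg)
    have hp : pos c < 575 := rep_cd.pos_lt c
    have hcode : ivCode (pos c) = c := by
      have := hl; unfold cls at this
      cases hq : Nat.beq (ivCode (pos c)) c
      · rw [hq] at this; simp at this
      · exact Nat.eq_of_beq_eq_true hq
    have := allB_spec kA_ok _ hp
    simp only [kaOK, hcode, Bool.and_eq_true, Nat.blt_eq, Nat.beq_eq] at this
    rw [hk]
    exact Nat.mul_div_cancel' (Nat.dvd_of_mod_eq_zero this.2)
  have hU : Nat.card {y : G // IsConj t y ∧ ∃ a ∈ col F, a ≠ 1 ∧ a * y = y * a} =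
      (X.filter fun y => ∃ a ∈ Ah, a * y = y * a).card := by
    rw [Nat.card_eq_fintype_card, Fintype.card_subtype]
    congr 1
    ext y
    simp only [hX, Finset.mem_filter, Finset.mem_univ, true_and, memAh, and_assoc]
  rw [hU, mul_comm, ← smul_eq_mul, ← Finset.sum_const]
  calc ∑ _y ∈ X.filter (fun y => ∃ a ∈ Ah, a * y = y * a), 105
      = ∑ y ∈ X, ∑ a ∈ Ah, if a * y = y * a then 105 / k y else 0 := by
        rw [Finset.sum_filter]
        refine Finset.sum_congr rfl fun y hy => ?_
        rw [← Finset.sum_filter, Finset.sum_const, smul_eq_mul]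
        split_ifs with hex
        · obtain ⟨a, ha, hay⟩ := hex
          exact (hdiv y hy a ha hay).symm
        · rw [Finset.filter_eq_empty_iff.2 fun a ha hay => hex ⟨a, ha, hay⟩, Finset.card_empty, zero_mul]
    _ = ∑ a ∈ Ah, ∑ y ∈ X, if a * y = y * a then 105 / k y else 0 := Finset.sum_comm
    _ = ∑ _a ∈ Ah, wSum (mask F) := Finset.sum_congr rfl fun a ha => by rw [← Finset.sum_filter]; exact hone a ha
    _ = 15 * wSum (mask F) := by rw [Finset.sum_const, hAhcard, smul_eq_mul]

omit hm in
theorem no_mod16 (hG : Nat.card G = 4030387200) : mask F ≠ 96 ∧ mask F ≠ 115 := by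
  have key : ∀ m ∈ ([96, 115] : List ℕ), mask F = m → False := by
    intro m hmem hmF
    have hm : mask F ∈ ([96, 113, 115] : List ℕ) := by
      rw [hmF]; simp only [List.mem_cons, List.not_mem_nil, or_false] at hmem ⊢; tauto
    have hu := union_card F hm
    have hX : Nat.card {y : G // IsConj t y} = 187425 := by
      have := card_class (G := G) t
      rw [card_cent F, hG] at this
      omega
    set S : Set G := {y | IsConj t y ∧ ¬ ∃ a ∈ col F, a ≠ 1 ∧ a * y = y * a} with hS
    have hd : (16 : ℕ) ∣ Nat.card S := by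
      rw [← card_col F]
      refine free_dvd (col F) S (fun a ha x hx => ⟨hx.1.trans (isConj_iff.2 ⟨a, rfl⟩), ?_⟩) fun a ha x hx he => ?_
      · rintro ⟨b, hb, hb1, hbx⟩
        refine hx.2 ⟨b, hb, hb1, mul_left_cancel (a := a) (mul_right_cancel (b := a⁻¹) ?_)⟩
        rw [← conj_mul, ← conj_mul, show a * b * a⁻¹ = b by rw [col_comm F ha hb]; group]
        exact hbx
      · by_contra h1
        exact hx.2 ⟨a, ha, h1, mul_inv_eq_iff_eq_mul.1 he⟩
    have hsum : Nat.card {y : G // IsConj t y ∧ ∃ a ∈ col F, a ≠ 1 ∧ a * y = y * a} + Nat.card S =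
        Nat.card {y : G // IsConj t y} := by
      classical
      haveI := Fintype.ofFinite G
      show _ + Nat.card {y : G // IsConj t y ∧ ¬ ∃ a ∈ col F, a ≠ 1 ∧ a * y = y * a} = _
      simp only [Nat.card_eq_fintype_card, Fintype.card_subtype]
      rw [← Finset.filter_filter, ← Finset.filter_filter]
      exact Finset.card_filter_add_card_filter_not _
    simp only [List.mem_cons, List.not_mem_nil, or_false] at hmem
    rcases hmem with rfl | rfl
    · rw [hmF, wsum96] at hu; omega
    · rw [hmF, wsum115] at hu; omega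
  exact ⟨fun e => key _ (by simp) e, fun e => key _ (by simp) e⟩

end Cfsg.Agent.HeUniq.Excl
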