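import Cfsg.Agent.Lib.HeUniq.Excl.Defs

/-! The checks for the column group, evaluated. -/

set_option autoImplicit false
set_option maxRecDepth 100000
set_option Elab.async false

namespace Cfsg.Agent.HeUniq.Excl

open Cfsg.Agent.HeUniq.Model

theorem col_ok : allB colOK 16 = true := by decide +kernel

theorem kA_ok : allB kaOK 575 = true := by decide +kernel

theorem pos_ok : allB posOK 575 = true := by decide +kernel

theorem wsum96 : wSum 96 = 105 := by decide +kernel

theorem wsum113 : wSum 113 = 1575 := by decide +kernel

theorem wsum115 : wSum 115 = 7455 := by decide +kernel

theorem unique96 : uniqueOK 96 = true := by decide +kernel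

end Cfsg.Agent.HeUniq.Excl
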