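import Cfsg.Agent.Lib.HeUniq.Fus.Defs

/-! Checks for the column subgroup of order 16 of the centraliser. -/

set_option autoImplicit false
set_option maxRecDepth 100000

namespace Cfsg.Agent.HeUniq.Excl

open Cfsg.Agent.HeUniq.Model Cfsg.Agent.HeUniq.Fus

/-- the elements of the column group -/
def colA (j : ℕ) : ℕ := cd (Nat.add 9728 (Nat.add (Nat.mod j 8) (Nat.mul 64 (Nat.div j 8))))

/-- the chosen element of the column group -/
def uA : ℕ := colA 1

/-- membership of the column group -/
def inA (a : ℕ) : Bool := (List.range 16).any fun j => Nat.beq (colA j) a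

/-- the fours group and some of its elements with a chosen element -/
def fours : List ℕ := [oneC, zC, uA, mC zC uA]

/-- four elements centralising the fours group -/
def hgens : List ℕ := [cd 10032, cd 9942, cd 4114, cd 16032]

/-- membership of the class, or trivial -/
def pureOK (m a : ℕ) : Bool := Nat.beq a oneC || (Nat.blt (cls a) 8 && m.testBit (cls a))

/-- the candidates -/
def candsOf (m : ℕ) : List ℕ :=
  gather (fun j => m.testBit (ivCls j) && Nat.beq (mC (ivCode j) uA) (mC uA (ivCode j)) &&
    fours.all fun w => !Nat.beq (ivCode j) w) ivCode 575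

/-- two elements generating with the fours group a pure normal group lie in the column group -/
def pairOK (m a b : ℕ) : Bool :=
  let T := fours ++ fours.map (mC a)
  let S := T ++ T.map (mC b)
  !Nat.beq (mC a b) (mC b a) || (T.any fun x => Nat.beq b x) || !(S.all (pureOK m)) ||
    !(hgens.all fun g => [a, b].all fun x => S.any fun y => Nat.beq (mC g x) (mC y g)) || (inA a && inA b)

/-- the whole check for a set of classes -/
def uniqueOK (m : ℕ) : Bool :=
  let l := candsOf m
  l.all fun a => l.all fun b => pairOK m a b

/-- the number of non-trivial elements of the column group commuting with `a` -/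
def kA (a : ℕ) : ℕ := cnt (fun j => Nat.beq (mC (colA (j + 1)) a) (mC a (colA (j + 1)))) 15

/-- the weight of an entry -/
def wOf (m j : ℕ) : ℕ := bif m.testBit (ivCls j) then 105 / kA (ivCode j) else 0

/-- the total weight -/
def wSum (m : ℕ) : ℕ := Nat.rec 0 (fun j r => Nat.add r (wOf m j)) 575

/-- an entry is found at its own place -/
def posOK (j : ℕ) : Bool := Nat.beq (pos (ivCode j)) j

/-- the checks on the weights of an entry -/
def kaOK (j : ℕ) : Bool := Nat.blt 0 (kA (ivCode j)) && Nat.beq (105 % kA (ivCode j)) 0

/-- the column group is normal and self-centralising -/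
def normOK (i : ℕ) : Bool :=
  ([1, 2, 4, 8].all fun j => (List.range 16).any fun k => Nat.beq (mC (cd i) (colA j)) (mC (colA k) (cd i))) &&
    (inA (cd i) || [1, 2, 4].any fun j => !Nat.beq (mC (cd i) (colA j)) (mC (colA j) (cd i)))

/-- the column group is closed, made of involutions of class six and the transvection -/
def colOK (j : ℕ) : Bool :=
  allB (fun k => Nat.beq (mC (colA j) (colA k)) (colA (Nat.xor j k))) 16 &&
    (Nat.beq j 0 || Nat.beq j 8 || Nat.beq (cls (colA j)) 6) &&
    (Nat.beq j 0 || !Nat.beq (colA j) oneC)

end Cfsg.Agent.HeUniq.Excl
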