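import Cfsg.Agent.Lib.HeUniq.Excl.GeomDefs

/-! The checks for the pure subgroups of order eight, evaluated. -/

set_option autoImplicit false
set_option maxRecDepth 100000
set_option Elab.async false

namespace Cfsg.Agent.HeUniq.Excl

open Cfsg.Agent.HeUniq.Model Cfsg.Agent.HeUniq.Fus

theorem meet113 : meetOK = true := by decide +kernel

theorem seven113 : sevenOK = true := by decide +kernel

theorem subgroups113 : subgroupsOK = true := by decide +kernel

theorem count113 : cnt (fun i => isL (cd i)) 21504 = 98 := by decide +kernel

end Cfsg.Agent.HeUniq.Excl
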