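import Cfsg.Agent.Lib.HeUniq.Excl.Defs

/-! Checks for the pure subgroups of order eight of the centraliser in the pattern with mask 113. -/

set_option autoImplicit false
set_option maxRecDepth 100000

namespace Cfsg.Agent.HeUniq.Excl

open Cfsg.Agent.HeUniq.Model Cfsg.Agent.HeUniq.Fus

/-- the involutions of the pattern outside the column group -/
def l113 : List ℕ := gather (fun j => Nat.testBit 113 (ivCls j) && !inA (ivCode j)) ivCode 575

/-- a code is among the listed ones -/
def inL (a : ℕ) (l : List ℕ) : Bool := l.any fun x => Nat.beq x a

/-- the good subgroups -/
def good113 : List (List ℕ) :=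
  [[16847105, 16847115, 16857345, 16857355, 17043531, 17053761, 17053771],
   [16916545, 16916557, 16916929, 16916941, 17043533, 17043905, 17043917],
   [16978305, 16978319, 16984129, 16984143, 17043535, 17049985, 17049999],
   [17041537, 17041543, 17043527, 17238145, 17238151, 17240129, 17240135],
   [17043523, 17045569, 17045571, 17109057, 17109059, 17111105, 17111107],
   [17043525, 17043649, 17043653, 17174593, 17174597, 17174721, 17174725],
   [17043529, 17043777, 17043785, 17051713, 17051721, 17051969, 17051977],
   [17043539, 17061953, 17061971, 17633345, 17633363, 17651777, 17651795],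
   [17043541, 17044161, 17044181, 17698881, 17698901, 17699521, 17699541],
   [17043543, 17058433, 17058455, 17764417, 17764439, 17779329, 17779351],
   [17043545, 17044289, 17044313, 17068097, 17068121, 17068865, 17068889],
   [17043547, 17070145, 17070171, 17371905, 17371931, 17398529, 17398555],
   [17043549, 17044417, 17044445, 17457217, 17457245, 17458113, 17458141],
   [17043551, 17066881, 17066911, 17503105, 17503135, 17524801, 17524831]]

/-- some element of the column group meets the subgroup's centraliser and does not normalise it -/
def badH (h : List ℕ) : Bool :=
  (List.range 16).any fun j => h.any (fun p => Nat.beq (mC (colA j) p) (mC p (colA j))) &&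
    h.any fun q => !inL (mC (mC (colA j) q) (colA j)) h

/-- how many elements of the column group meet the centraliser of an element of the subgroup -/
def cntA (h : List ℕ) : ℕ :=
  cnt (fun j => h.any fun p => Nat.beq (mC (colA (j + 1)) p) (mC p (colA (j + 1)))) 15

/-- a pure subgroup is bad or good -/
def hOK (h : List ℕ) : Bool := badH h || (Nat.beq (cntA h) 7 && good113.any fun g => g.all fun x => inL x h)

/-- the subgroup with three ordered generators -/
def tripleOK (l : List ℕ) (a b c ab : ℕ) : Bool :=
  let ac := mC a c
  let bc := mC b c
  let abc := mC ab c
  !(Nat.blt c ac && Nat.blt c bc && Nat.blt c abc) || !(inL ac l && inL bc l && inL abc l) ||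
    hOK [a, b, ab, c, ac, bc, abc]

/-- every pure subgroup of order eight -/
def subgroupsOK : Bool :=
  let l := l113
  l.all fun a => l.all fun b =>
    !(Nat.blt a b && Nat.beq (mC a b) (mC b a)) ||
      (let ab := mC a b
       !(Nat.blt b ab && inL ab l) ||
        l.all fun c => !(Nat.blt b c && Nat.beq (mC a c) (mC c a) && Nat.beq (mC b c) (mC c b)) ||
          tripleOK l a b c ab)

/-- any two good subgroups have commuting elements -/
def meetOK : Bool :=
  good113.all fun g => good113.all fun k => g.any fun b => k.any fun c => Nat.beq (mC b c) (mC c b)

/-- each listed involution commutes with seven elements of the column group -/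
def sevenOK : Bool := l113.all fun a => Nat.beq (kA a) 7

/-- an involution of the pattern outside the column group -/
def isL (a : ℕ) : Bool :=
  Nat.beq (mC a a) oneC && Nat.blt (cls a) 8 && Nat.testBit 113 (cls a) && !inA a

end Cfsg.Agent.HeUniq.Excl
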